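import Cfsg.Agent.Lib.Comp.Net
import Mathlib.Data.Nat.Factorization.Basic

/-! # A verified search through class equations (definitions) -/

namespace Cfsg.Lib.KC
open Cfsg.Lib.Comp

abbrev P := ℕ × ℕ

def dvB (a b : ℕ) : Bool := Nat.beq (Nat.mod b a) 0

noncomputable def fL {α : Type} (l : List ℕ) : (List ℕ → α) → α :=
  List.rec (motive := fun _ => (List ℕ → α) → α) (fun k => k []) (fun x _ ih k => force x fun v => ih fun t => k (v :: t)) l

noncomputable def fP {α : Type} (l : List P) : (List P → α) → α :=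
  List.rec (motive := fun _ => (List P → α) → α) (fun k => k [])
    (fun x _ ih k => force x.1 fun v => force x.2 fun w => ih fun t => k ((v, w) :: t)) l

noncomputable def al {α : Type} (l : List α) (f : α → Bool) : Bool :=
  List.rec (motive := fun _ => Bool) true (fun x _ ih => cnd (f x) ih false) l

noncomputable def an {α : Type} (l : List α) (f : α → Bool) : Bool :=
  List.rec (motive := fun _ => Bool) false (fun x _ ih => cnd (f x) true ih) l

noncomputable def fi {α β : Type} (l : List α) (f : α → Bool) (m : α → β) (t : List β) : List β :=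
  List.rec (motive := fun _ => List β) t (fun x _ ih => cnd (f x) (m x :: ih) ih) l

noncomputable def pf (n : ℕ) : ℕ → ℕ → List ℕ :=
  Nat.rec (motive := fun _ => ℕ → ℕ → List ℕ) (fun _ _ => []) (fun _ ih d c =>
    cnd (Nat.blt c (Nat.mul d d)) (cnd (Nat.ble c 1) [] [c])
      (cnd (dvB d c) (force (Nat.div c d) fun e => cnd (dvB d e) (ih d e) (d :: force (Nat.succ d) fun d' => ih d' e))
        (force (Nat.succ d) fun d' => ih d' c))) n

noncomputable def pp (p n : ℕ) : ℕ → ℕ :=
  Nat.rec (motive := fun _ => ℕ → ℕ) (fun _ => 1) (fun _ ih c =>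
    cnd (dvB p c) (force (Nat.div c p) fun e => Nat.mul p (ih e)) 1) n

noncomputable def ex (p n : ℕ) : ℕ → List ℕ → List ℕ :=
  Nat.rec (motive := fun _ => ℕ → List ℕ → List ℕ) (fun _ D => D) (fun _ ih b D =>
    cnd (dvB p b) (force (Nat.div b p) fun e => fL (fi D (fun _ => true) (Nat.mul p) []) fun D' =>
      fi D (fun _ => true) (fun x => x) (ih e D')) D) n

noncomputable def dv (ps : List ℕ) (b : ℕ) : List ℕ :=
  List.rec (motive := fun _ => List ℕ) [1] (fun p _ ih => fL ih fun D => ex p b b D) ps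

noncomputable def ins (l t : List ℕ) : List ℕ :=
  List.rec (motive := fun _ => List ℕ) t (fun a _ ih => fL ih fun u => cnd (an u (Nat.beq a)) u (a :: u)) l

noncomputable def len (l : List ℕ) : ℕ := List.rec (motive := fun _ => ℕ) 0 (fun _ _ ih => Nat.succ ih) l

noncomputable def allR (f : ℕ → Bool) (n : ℕ) : ℕ → Bool :=
  Nat.rec (motive := fun _ => ℕ → Bool) (fun _ => true) (fun _ ih c => cnd (f c) (force (Nat.succ c) ih) false) n

noncomputable def nsat (pre : List P) (d : P) : Bool := al pre fun y => cnd (Nat.beq y.1 d.1) (cnd (dvB d.2 y.2) false true) true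

noncomputable def okc (cm om : ℕ) (pre : List P) (f : List ℕ) (c o : ℕ) : Bool :=
  cnd (Nat.blt 1 o) (cnd (cnd (Nat.blt cm c) true (Nat.ble o om))
    (cnd (cnd (cnd (Nat.beq o 2) true (Nat.beq o 4)) (dvB 8 c) true)
      (al f fun p => cnd (dvB p o) true (force (Nat.mul o p) fun u => an pre fun y => cnd (Nat.beq y.1 u) (dvB y.2 c) false))
      false) false) false

noncomputable def tr (r cm om : ℕ) (pre dem : List P) (ps : List ℕ) (c : ℕ) (K : ℕ → List P → List P → List ℕ → Bool) : Bool :=
  fL (pf c 2 c) fun f => fL (dv f c) fun D => al D fun o => cnd (okc cm om pre f c o)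
    (fP (fi (fi D (fun d => cnd (Nat.blt 1 d) (cnd (Nat.blt d o) (dvB d o) false) false) (fun d => (d, c))
        (fi f (fun _ => true) (fun p => (p, pp p c c)) dem)) (nsat ((o, c) :: pre)) (fun x => x) []) fun dem' =>
      cnd (Nat.ble (len (ins (fi dem' (fun _ => true) Prod.fst []) [])) r)
        (fL (ins f ps) fun ps' => K o ((o, c) :: pre) dem' ps') true) true

noncomputable def cnt (g : ℕ) (l : List P) (q : ℕ → Bool) : ℕ :=
  List.rec (motive := fun _ => ℕ) 0 (fun y _ ih => cnd (q y.1) (Nat.add (Nat.div g y.2) ih) ih) l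

noncomputable def bfB (k g : ℕ) (l : List P) : Bool :=
  al l fun y => cnd (Nat.beq y.1 2) (Nat.ble g (Nat.add (Nat.mul k (Nat.mul y.2 y.2)) y.2)) true

noncomputable def fin (k : ℕ) (A : ℕ → List P → Bool) (g : ℕ) (l : List P) (ps : List ℕ) : Bool :=
  cnd (bfB k g l) (cnd (al ps fun p => cnd (dvB p g) (force (pp p g g) fun q => an l fun y => cnd (Nat.beq y.1 p) (dvB q y.2) false) true)
    (cnd (al l fun y => force (Nat.div g y.2) fun s => al ps fun p => cnd (Nat.beq (pp p s s) s) false true)
      (cnd (al ps fun p => cnd (dvB p g) (cnd (dvB (Nat.mul p p) g) true (force (cnt g l (Nat.beq p)) fun N =>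
          cnd (dvB (Nat.pred p) N) (dvB (Nat.div N (Nat.pred p)) g) false)) true)
        (cnd (al (dv ps g) fun m => cnd (dvB m g) (dvB m (Nat.succ (cnt g l fun o => dvB o m))) true) (A g l) true)
        true) true) true) true

structure Md where
  k : ℕ
  G0 : ℕ
  mc : ℕ → Bool
  mg : ℕ → Bool
  A : ℕ → List P → Bool

noncomputable def leaf (M : Md) (a b cm om : ℕ) (pre dem : List P) (ps : List ℕ) : Bool :=
  al (dv ps b) fun j => force (Nat.mul b (Nat.succ j)) fun x => force (Nat.mul a j) fun y => cnd (dvB y x)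
    (force (Nat.div x y) fun c => force (Nat.mul c j) fun g =>
      cnd (Nat.ble cm c) (cnd (Nat.ble M.G0 g) (cnd (M.mg g) (cnd (M.mc c) (cnd (al pre fun y => dvB y.2 g) (cnd (bfB M.k g pre)
        (tr 0 cm om pre dem ps c fun _ l _ ps' => fin M.k M.A g l ps') true) true) true) true) true) true) true

noncomputable def hiB (G0 r a b : ℕ) : ℕ :=
  force (Nat.div (Nat.mul (Nat.succ (Nat.mul 5 r)) b) (Nat.mul 5 a)) fun h1 =>
    cnd (Nat.blt b (Nat.mul a G0)) (force (Nat.div (Nat.mul (Nat.mul r b) G0) (Nat.sub (Nat.mul a G0) b)) fun h2 =>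
      cnd (Nat.ble h1 h2) h1 h2) h1

noncomputable def inner (M : Md) (r : ℕ) (N : ℕ → ℕ → ℕ → ℕ → List P → List P → List ℕ → Bool)
    (a b cm om : ℕ) (pre dem : List P) (ps : List ℕ) (c : ℕ) : Bool :=
  cnd (M.mc c) (force (Nat.sub (Nat.mul a c) b) fun a2 => force (Nat.mul b c) fun b2 => force (Nat.gcd a2 b2) fun d =>
    force (Nat.div a2 d) fun a3 => force (Nat.div b2 d) fun b3 =>
      tr (Nat.succ r) cm om pre dem ps c fun o l dem' ps' => N a3 b3 c o l dem' ps') true

noncomputable def node (M : Md) (r : ℕ) : ℕ → ℕ → ℕ → ℕ → List P → List P → List ℕ → Bool :=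
  Nat.rec (motive := fun _ => ℕ → ℕ → ℕ → ℕ → List P → List P → List ℕ → Bool) (leaf M) (fun r N a b cm om pre dem ps =>
    force (Nat.succ (Nat.div b a)) fun l1 => force (cnd (Nat.ble l1 cm) cm l1) fun lo =>
      force (Nat.sub (Nat.succ (hiB M.G0 (Nat.succ (Nat.succ r)) a b)) lo) fun n =>
        allR (inner M r N a b cm om pre dem ps) n lo) r

noncomputable def M90 : Md := ⟨8, 1104, fun _ => true, fun _ => true, fun g l =>
  cnd (Nat.beq g 20160) (cnd (an l fun y => Nat.beq y.2 8) (al l fun y => cnd (Nat.beq y.1 2) (Nat.beq y.2 64) true) false) false⟩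

noncomputable def M91 : Md := ⟨8, 175560, fun c => cnd (dvB 16 c) false true,
  fun g => cnd (Nat.beq g 175560) true (dvB 19683 g), fun _ _ => false⟩

end Cfsg.Lib.KC
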