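import Cfsg.Agent.Lib.KC.A

/-! # A verified search through class equations (soundness of the primitives) -/

namespace Cfsg.Lib.KC
open Cfsg.Lib.Comp

theorem dvB_iff {a b : ℕ} : dvB a b = true ↔ a ∣ b := by
  unfold dvB; rw [Nat.beq_eq]; exact Nat.dvd_iff_mod_eq_zero.symm

theorem cnd_imp {b x : Bool} : cnd b x true = true ↔ (b = true → x = true) := by cases b <;> cases x <;> simp [cnd]
theorem cnd_or {b x : Bool} : cnd b true x = true ↔ (b = true ∨ x = true) := by cases b <;> cases x <;> simp [cnd]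
theorem cnd_or' {b x : Bool} : cnd b true x = true ↔ (¬ b = true → x = true) := by cases b <;> cases x <;> simp [cnd]
theorem cnd_not {b : Bool} : cnd b false true = true ↔ ¬ b = true := by cases b <;> simp [cnd]

theorem fL_eq {α : Type} (l : List ℕ) (k : List ℕ → α) : fL l k = k l := by
  induction l generalizing k with
  | nil => rfl
  | cons x t ih => exact ih _

theorem fP_eq {α : Type} (l : List P) (k : List P → α) : fP l k = k l := by
  induction l generalizing k with
  | nil => rfl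
  | cons x t ih => exact ih _

theorem al_iff {α : Type} {l : List α} {f : α → Bool} : al l f = true ↔ ∀ x ∈ l, f x = true := by
  induction l with
  | nil => simp [al]
  | cons x t ih => change cnd (f x) (al t f) false = true ↔ _; rw [cnd_tt, ih]; simp

theorem an_iff {α : Type} {l : List α} {f : α → Bool} : an l f = true ↔ ∃ x ∈ l, f x = true := by
  induction l with
  | nil => simp [an]
  | cons x t ih => change cnd (f x) true (an t f) = true ↔ _; rw [cnd_or, ih]; simp

theorem mem_fi {α β : Type} {l : List α} {f : α → Bool} {m : α → β} {t : List β} {y : β} :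
    y ∈ fi l f m t ↔ (∃ x ∈ l, f x = true ∧ m x = y) ∨ y ∈ t := by
  induction l with
  | nil => simp [fi]
  | cons x u ih =>
    change y ∈ cnd (f x) (m x :: fi u f m t) (fi u f m t) ↔ _
    rw [cnd_eq]; split_ifs with h
    · rw [List.mem_cons, ih]
      simp only [List.mem_cons, exists_eq_or_imp, h, true_and, or_assoc]
      exact or_congr_left eq_comm
    · rw [ih]; simp [h]

theorem mem_pf {p : ℕ} (n : ℕ) : ∀ d c, 2 ≤ d → 0 < c → c < n + d → (∀ q, q.Prime → q ∣ c → d ≤ q) →
    (p ∈ pf n d c ↔ p.Prime ∧ p ∣ c) := by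
  induction n with
  | zero =>
    intro d c _ h0 h1 h2
    refine ⟨fun h => (nomatch h), fun h => ?_⟩
    have := h2 p h.1 h.2
    have := Nat.le_of_dvd h0 h.2
    omega
  | succ n ih =>
    intro d c hd h0 h1 h2
    have hdp : d ∣ c → d.Prime := fun a3 => by
      have h5 := Nat.minFac_prime (show d ≠ 1 by omega)
      have := h2 _ h5 ((Nat.minFac_dvd d).trans a3)
      rwa [le_antisymm (Nat.minFac_le (by omega)) this] at h5
    change p ∈ cnd (Nat.blt c (d * d)) (cnd (Nat.ble c 1) [] [c]) (cnd (dvB d c)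
      (cnd (dvB d (c / d)) (pf n d (c / d)) (d :: pf n (d + 1) (c / d))) (pf n (d + 1) c)) ↔ _
    simp only [cnd_eq, dvB_iff, Nat.blt_eq, Nat.ble_eq]
    split_ifs with a1 a2 a3 a4
    · obtain rfl : c = 1 := by omega
      simp only [List.not_mem_nil, Nat.dvd_one, false_iff]
      rintro ⟨h, rfl⟩; exact Nat.not_prime_one h
    · have hc : c.Prime := by
        by_contra h
        have h3 := Nat.minFac_sq_le_self h0 h
        have h4 := h2 _ (Nat.minFac_prime (by omega)) (Nat.minFac_dvd c)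
        nlinarith
      rw [List.mem_singleton]
      exact ⟨fun h => by rw [h]; exact ⟨hc, dvd_rfl⟩, fun h => (Nat.prime_dvd_prime_iff_eq h.1 hc).1 h.2⟩
    · obtain ⟨e, rfl⟩ := a3
      rw [Nat.mul_div_cancel_left _ (by omega)] at a4 ⊢
      have he : 0 < e := Nat.pos_of_mul_pos_left h0
      rw [ih d e hd he (by nlinarith) fun q hq h => h2 q hq (h.mul_left _)]
      refine and_congr_right fun hp => ⟨fun h => h.mul_left _, fun h => (hp.dvd_mul.1 h).elim (fun h => h.trans a4) id⟩
    · have hd' := hdp a3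
      obtain ⟨e, rfl⟩ := a3
      rw [Nat.mul_div_cancel_left _ (by omega)] at a4 ⊢
      have he : 0 < e := Nat.pos_of_mul_pos_left h0
      rw [List.mem_cons, ih (d + 1) e (by omega) he (by nlinarith) fun q hq h =>
        (h2 q hq (h.mul_left _)).lt_of_ne fun e => a4 (e ▸ h)]
      refine ⟨fun h => h.elim (fun h => by rw [h]; exact ⟨hd', dvd_mul_right _ _⟩) fun h => ⟨h.1, h.2.mul_left _⟩, fun h =>
        (h.1.dvd_mul.1 h.2).imp (Nat.prime_dvd_prime_iff_eq h.1 hd').1 fun h' => ⟨h.1, h'⟩⟩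
    · exact ih (d + 1) c (by omega) h0 (by omega) fun q hq h => (h2 q hq h).lt_of_ne fun e => a3 (e ▸ h)

theorem mem_pf' {p c : ℕ} (h : 0 < c) : p ∈ pf c 2 c ↔ p.Prime ∧ p ∣ c :=
  mem_pf c 2 c le_rfl h (by omega) fun _ hq _ => hq.two_le

theorem pp_spec (p n : ℕ) : ∀ c, ∃ i, pp p n c = p ^ i ∧ p ^ i ∣ c := by
  induction n with
  | zero => exact fun c => ⟨0, rfl, one_dvd _⟩
  | succ n ih =>
    intro c
    change ∃ i, cnd (dvB p c) (p * pp p n (c / p)) 1 = _ ∧ _
    rw [cnd_eq]; split_ifs with h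
    · obtain ⟨i, h1, h2⟩ := ih (c / p)
      refine ⟨i + 1, by rw [h1, pow_succ'], ?_⟩
      rw [pow_succ', ← Nat.mul_div_cancel' (dvB_iff.1 h)]
      exact Nat.mul_dvd_mul_left _ h2
    · exact ⟨0, rfl, one_dvd _⟩

theorem mem_ex {p : ℕ} (hp : 2 ≤ p) (i : ℕ) : ∀ n b D d, 0 < b → b ≤ n → d ∈ D → p ^ i ∣ b → p ^ i * d ∈ ex p n b D := by
  have e : ∀ n b D, ex p (n + 1) b D = cnd (dvB p b) (fi D (fun _ => true) (fun x => x)
      (ex p n (b / p) (fi D (fun _ => true) (Nat.mul p) []))) D := fun n b D => by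
    change cnd (dvB p b) (fL _ _) D = _; rw [fL_eq]; rfl
  induction i with
  | zero =>
    intro n b D d _ _ h _
    rw [pow_zero, one_mul]
    cases n with
    | zero => exact h
    | succ n =>
      rw [e, cnd_eq]; split_ifs
      · exact mem_fi.2 (Or.inl ⟨d, h, rfl, rfl⟩)
      · exact h
  | succ i ih =>
    intro n b D d h0 h1 h h2
    obtain ⟨n, rfl⟩ : ∃ m, n = m + 1 := ⟨n - 1, by omega⟩
    obtain ⟨u, rfl⟩ := h2
    have h3 : p ^ (i + 1) * u = p * (p ^ i * u) := by ring
    rw [h3] at h0 h1 ⊢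
    have h4 : 0 < p ^ i * u := Nat.pos_of_mul_pos_left h0
    rw [e, cnd_eq, if_pos (dvB_iff.2 (dvd_mul_right _ _)), Nat.mul_div_cancel_left _ (by omega),
      show p ^ (i + 1) * d = p ^ i * (p * d) by ring]
    exact mem_fi.2 (Or.inr (ih n _ _ _ h4 (by nlinarith) (mem_fi.2 (Or.inl ⟨d, h, rfl, rfl⟩)) (dvd_mul_right _ _)))

theorem mem_dv {ps : List ℕ} {b : ℕ} (hb : 0 < b) (h : ∀ p ∈ ps, p.Prime) :
    ∀ j, j ∣ b → (∀ q, q.Prime → q ∣ j → q ∈ ps) → j ∈ dv ps b := by
  induction ps with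
  | nil =>
    intro j _ h2
    rw [Nat.eq_one_iff_not_exists_prime_dvd.2 fun q hq h => nomatch h2 q hq h]
    exact List.mem_singleton.2 rfl
  | cons p t ih =>
    intro j h1 h2
    change j ∈ fL (dv t b) fun D => ex p b b D
    rw [fL_eq]
    have hp := h p List.mem_cons_self
    obtain ⟨i, u, h3, rfl⟩ := Nat.exists_eq_pow_mul_and_not_dvd (Nat.pos_of_dvd_of_pos h1 hb).ne' p hp.ne_one
    refine mem_ex hp.two_le i b b _ u hb le_rfl (ih (fun q hq => h q (List.mem_cons_of_mem _ hq)) u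
      ((dvd_mul_left _ _).trans h1) fun q hq h4 => ?_) ((dvd_mul_right _ _).trans h1)
    exact (List.mem_cons.1 (h2 q hq (h4.mul_left _))).resolve_left fun e => h3 (e ▸ h4)

theorem ins_spec (l t : List ℕ) : (∀ a, a ∈ ins l t ↔ a ∈ l ∨ a ∈ t) ∧ (t.Nodup → (ins l t).Nodup) := by
  induction l with
  | nil => exact ⟨fun a => by simp [ins], id⟩
  | cons x u ih =>
    have e : ins (x :: u) t = cnd (an (ins u t) (Nat.beq x)) (ins u t) (x :: ins u t) := fL_eq _ _
    rw [e, cnd_eq]
    simp only [an_iff, Nat.beq_eq, exists_eq_right']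
    split_ifs with h
    · refine ⟨fun a => ?_, ih.2⟩
      rw [List.mem_cons, or_assoc, ← ih.1]
      exact ⟨Or.inr, fun h' => h'.elim (fun e => e ▸ h) id⟩
    · exact ⟨fun a => by rw [List.mem_cons, List.mem_cons, or_assoc, ih.1], fun h' => List.nodup_cons.2 ⟨h, ih.2 h'⟩⟩

theorem len_eq (l : List ℕ) : len l = l.length := by
  induction l with
  | nil => rfl
  | cons x u ih => exact congrArg Nat.succ ih

theorem allR_spec {f : ℕ → Bool} (n : ℕ) : ∀ lo c, allR f n lo = true → lo ≤ c → c < lo + n → f c = true := by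
  induction n with
  | zero => intro lo c _ h1 h2; omega
  | succ n ih =>
    intro lo c h h1 h2
    change cnd (f lo) (allR f n (lo + 1)) false = true at h
    rw [cnd_tt] at h
    rcases h1.eq_or_lt with rfl | h1
    · exact h.1
    · exact ih _ c h.2 h1 (by omega)

theorem cnt_cons (g : ℕ) (y : P) (l : List P) (q : ℕ → Bool) :
    cnt g (y :: l) q = (if q y.1 = true then g / y.2 else 0) + cnt g l q := by
  change cnd (q y.1) (g / y.2 + cnt g l q) (cnt g l q) = _
  rw [cnd_eq]; split_ifs <;> simp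

theorem cnt_eq (g : ℕ) (l : List P) (q : ℕ → Bool) :
    cnt g l q = (l.map fun y => if q y.1 = true then g / y.2 else 0).sum := by
  induction l with
  | nil => rfl
  | cons y u ih => rw [cnt_cons, ih, List.map_cons, List.sum_cons]

theorem cnt_perm (g : ℕ) {l l' : List P} (h : l.Perm l') (q : ℕ → Bool) : cnt g l q = cnt g l' q := by
  rw [cnt_eq, cnt_eq]; exact (h.map _).sum_eq

theorem bfB_iff {k g : ℕ} {l : List P} : bfB k g l = true ↔ ∀ y ∈ l, y.1 = 2 → g ≤ k * (y.2 * y.2) + y.2 := by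
  simp only [bfB, al_iff, cnd_imp, Nat.beq_eq, Nat.ble_eq]; rfl

end Cfsg.Lib.KC
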