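import Cfsg.Agent.Lib.KC.B

/-! # A verified search through class equations (soundness of the search) -/

namespace Cfsg.Lib.KC
open Cfsg.Lib.Comp

structure Dat (M : Md) (g : ℕ) (L : List P) : Prop where
  sum : cnt g L (fun _ => true) + 1 = g
  dv : ∀ x ∈ L, 1 < x.1 ∧ x.1 ∣ x.2 ∧ x.2 ∣ g ∧ 5 ≤ x.2 ∧ 5 * x.2 ≤ g
  up : ∀ x ∈ L, ∀ p, p.Prime → p ∣ x.2 → ¬ p ∣ x.1 → ∃ y ∈ L, y.1 = x.1 * p ∧ y.2 ∣ x.2
  dn : ∀ x ∈ L, ∀ d, d ∣ x.1 → 1 < d → ∃ y ∈ L, y.1 = d ∧ x.2 ∣ y.2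
  sy : ∀ p i, p.Prime → p ∣ g → p ^ i ∣ g → ∃ y ∈ L, y.1 = p ∧ p ^ i ∣ y.2
  e8 : ∀ x ∈ L, x.1 = 2 ∨ x.1 = 4 → 8 ∣ x.2
  bf : ∀ x ∈ L, x.1 = 2 → g ≤ M.k * (x.2 * x.2) + x.2
  fr : ∀ m, m ∣ g → m ∣ cnt g L (fun o => dvB o m) + 1
  np : ∀ p, p.Prime → p ∣ g → ¬ p * p ∣ g → ∃ n, n ∣ g ∧ cnt g L (Nat.beq p) = n * (p - 1)
  bu : ∀ x ∈ L, ∀ p i, p.Prime → g / x.2 ≠ p ^ i
  g0 : M.G0 ≤ g
  mc : ∀ x ∈ L, M.mc x.2 = true
  mg : M.mg g = true

variable {M : Md} {g : ℕ}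

theorem Dat.perm {L L' : List P} (h : Dat M g L) (e : L.Perm L') : Dat M g L' := by
  obtain ⟨a1, a2, a3, a4, a5, a6, a7, a8, a9, a10, a11, a12, a13⟩ := h
  simp only [e.mem_iff, cnt_perm g e] at *
  exact ⟨a1, a2, a3, a4, a5, a6, a7, a8, a9, a10, a11, a12, a13⟩

theorem Dat.pos {L : List P} (h : Dat M g L) : 0 < g := h.sum ▸ Nat.succ_pos _

def LE (x y : P) : Prop := x.2 < y.2 ∨ x.2 = y.2 ∧ y.1 ≤ x.1

def Dm (dem suf : List P) : Prop := ∀ d ∈ dem, ∃ y ∈ suf, y.1 = d.1 ∧ d.2 ∣ y.2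

theorem tr_spec {r cm om : ℕ} {pre dem suf : List P} {ps : List ℕ} {x : P} {K : ℕ → List P → List P → List ℕ → Bool}
    (hD : Dat M g (pre ++ x :: suf)) (hs : ∀ y ∈ suf, LE x y) (hx : LE (om, cm) x) (hd : Dm dem (x :: suf))
    (hp : ∀ p ∈ ps, p.Prime) (hr : suf.length ≤ r) (h : tr r cm om pre dem ps x.2 K = true) :
    ∃ dem' ps', Dm dem' suf ∧ (∀ p, p ∈ ps' ↔ (p.Prime ∧ p ∣ x.2) ∨ p ∈ ps) ∧ K x.1 (x :: pre) dem' ps' = true := by
  have hxL : x ∈ pre ++ x :: suf := by simp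
  obtain ⟨x1, x2, x3, x4, -⟩ := hD.dv x hxL
  have x0 : 0 < x.2 := by omega
  have hf : ∀ p, p ∈ pf x.2 2 x.2 ↔ _ := fun p => mem_pf' x0
  unfold tr at h
  rw [fL_eq, fL_eq, al_iff] at h
  generalize pf x.2 2 x.2 = f at h hf
  have h := h x.1 (mem_dv x0 (fun p hp => ((hf p).1 hp).1) _ x2 fun q hq e => (hf q).2 ⟨hq, e.trans x2⟩)
  rw [cnd_imp, fP_eq, cnd_imp, fL_eq] at h
  have hdm : Dm (fi (fi (dv f x.2) (fun d => cnd (Nat.blt 1 d) (cnd (Nat.blt d x.1) (dvB d x.1) false) false) (fun d => (d, x.2))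
      (fi f (fun _ => true) (fun p => (p, pp p x.2 x.2)) dem)) (nsat ((x.1, x.2) :: pre)) (fun x => x) []) suf := by
    intro d hd'
    simp only [mem_fi, List.not_mem_nil, or_false, exists_eq_right_right, nsat, al_iff, cnd_imp, cnd_tt, Nat.beq_eq,
      dvB_iff, Nat.blt_eq, true_and] at hd'
    obtain ⟨h1, h2⟩ := hd'
    have : ∃ y ∈ pre ++ x :: suf, y.1 = d.1 ∧ d.2 ∣ y.2 := by
      rcases h1 with ⟨e, -, ⟨h3, -, h4⟩, rfl⟩ | ⟨p, h3, rfl⟩ | h1
      · exact hD.dn x hxL e h4 h3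
      · obtain ⟨i, h4, h5⟩ := pp_spec p x.2 x.2
        have := (hf p).1 h3
        rw [h4]
        exact hD.sy p i this.1 (this.2.trans x3) (h5.trans x3)
      · obtain ⟨y, h3, h4⟩ := hd d h1
        exact ⟨y, List.mem_append_right _ h3, h4⟩
    obtain ⟨y, h3, h4, h5⟩ := this
    refine ⟨y, ?_, h4, h5⟩
    by_contra h6
    exact Bool.false_ne_true (h2 y (by simpa [h6, or_comm] using h3) h4 h5)
  refine ⟨_, _, hdm, fun p => by rw [(ins_spec _ _).1, hf], h ?_ ?_⟩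
  · simp only [okc, cnd_tt, cnd_or, cnd_imp, al_iff, force_eq, an_iff, Nat.blt_eq, Nat.ble_eq, Nat.beq_eq, dvB_iff]
    refine ⟨x1, hx.imp id And.right, hD.e8 x hxL, fun p hp => ?_⟩
    have h1 := (hf p).1 hp
    refine or_iff_not_imp_left.2 fun h2 => ?_
    obtain ⟨y, h3, h4, h5⟩ := hD.up x hxL p h1.1 h1.2 h2
    refine ⟨y, ?_, h4, h5⟩
    have h6 : x.1 < y.1 := by rw [h4]; have := h1.1.two_le; nlinarith
    have h7 := Nat.le_of_dvd x0 h5
    rcases List.mem_append.1 h3 with h3 | h3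
    · exact h3
    rcases List.mem_cons.1 h3 with rfl | h3
    · omega
    · rcases hs y h3 with h8 | h8 <;> omega
  · rw [Nat.ble_eq, len_eq]
    refine le_trans (((ins_spec _ _).2 List.nodup_nil).length_le_of_subset (l₂ := suf.map Prod.fst) fun a ha => ?_)
      (by rwa [List.length_map])
    rw [(ins_spec _ _).1, mem_fi] at ha
    simp only [List.not_mem_nil, or_false, true_and] at ha
    obtain ⟨d, h1, rfl⟩ := ha
    obtain ⟨y, h2, h3, -⟩ := hdm d h1
    exact List.mem_map.2 ⟨y, h2, h3⟩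

theorem fin_spec {l : List P} {ps : List ℕ} (hD : Dat M g l) (hp : ∀ p ∈ ps, p.Prime)
    (h : fin M.k M.A g l ps = true) : M.A g l = true := by
  simp only [fin, cnd_imp, bfB_iff, al_iff, an_iff, force_eq, cnd_tt, cnd_or', dvB_iff, Nat.beq_eq] at h
  refine h hD.bf (fun p h1 h2 => ?_) (fun y h1 p h2 h3 => ?_) (fun p h1 h2 h3 => ?_) fun m _ h1 => hD.fr m h1
  · obtain ⟨i, h4, h5⟩ := pp_spec p g g
    rw [h4]; exact hD.sy p i (hp p h1) h2 h5
  · obtain ⟨i, h4, -⟩ := pp_spec p (g / y.2) (g / y.2)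
    exact (hD.bu y h1 p i (hp p h2) (Eq.trans h3.symm h4)).elim
  · obtain ⟨n, h4, h5⟩ := hD.np p (hp p h1) h2 h3
    have := (hp p h1).two_le
    rw [h5]
    refine ⟨dvd_mul_left _ _, ?_⟩
    change n * (p - 1) / (p - 1) ∣ g
    rwa [Nat.mul_div_cancel _ (by omega)]

structure Inv (M : Md) (g a b cm om : ℕ) (pre dem : List P) (ps : List ℕ) (suf : List P) : Prop where
  D : Dat M g (pre ++ suf)
  srt : suf.Pairwise LE
  lo : ∀ y ∈ suf, LE (om, cm) y
  dm : Dm dem suf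
  pr : ∀ p ∈ ps, p.Prime
  b0 : 0 < b
  pb : ∀ q, q.Prime → q ∣ b → q ∈ ps
  eq : a * g = b * (cnt g suf (fun _ => true) + 1)

def Acc (M : Md) (g : ℕ) (L : List P) : Prop := ∃ l : List P, l.Perm L ∧ M.A g l = true

theorem leaf_spec {a b cm om : ℕ} {pre dem : List P} {ps : List ℕ} {x : P} (I : Inv M g a b cm om pre dem ps [x])
    (h : leaf M a b cm om pre dem ps = true) : Acc M g (pre ++ [x]) := by
  have hxL : x ∈ pre ++ [x] := by simp
  obtain ⟨x1, x2, ⟨j, x3⟩, x4, x5⟩ := I.D.dv x hxL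
  have e := I.eq
  have g0 := I.D.pos
  rw [cnt_cons, if_pos rfl, show cnt g [] (fun _ => true) = 0 from rfl, add_zero, x3, Nat.mul_div_cancel_left _ (by omega)] at e
  have j0 : 0 < j := Nat.pos_of_mul_pos_left (x3 ▸ g0)
  have hj : j ∣ b := (Nat.dvd_add_right (dvd_mul_left j b)).1 ⟨a * x.2, by rw [← mul_add_one, ← e]; ring⟩
  have a0 : 0 < a * j := by
    have := I.b0
    rcases Nat.eq_zero_or_pos a with rfl | h
    · rw [zero_mul] at e; exact absurd e.symm (by positivity)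
    · positivity
  have e1 : Nat.mul b (Nat.succ j) = Nat.mul a j * x.2 := by
    change b * (j + 1) = a * j * x.2; rw [← e]; ring
  have e2 : Nat.div (Nat.mul a j * x.2) (Nat.mul a j) = x.2 := Nat.mul_div_cancel_left _ a0
  have e3 : Nat.mul x.2 j = g := x3.symm
  simp only [leaf, al_iff, force_eq, cnd_imp, dvB_iff, Nat.ble_eq, bfB_iff] at h
  have h := h j (mem_dv I.b0 I.pr j hj fun q hq h => I.pb q hq (h.trans hj))
  rw [e1, e2, e3] at h
  have hx := I.lo x (List.mem_singleton.2 rfl)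
  have h := h (dvd_mul_right _ _) (hx.elim le_of_lt fun h => h.1.le) I.D.g0 I.D.mg (I.D.mc x hxL)
    (fun y hy => (I.D.dv y (List.mem_append_left _ hy)).2.2.1) fun y hy => I.D.bf y (List.mem_append_left _ hy)
  obtain ⟨dem', ps', -, h1, h2⟩ := tr_spec I.D (fun _ h => nomatch h) hx I.dm I.pr le_rfl h
  have hp : (x :: pre).Perm (pre ++ [x]) := (List.perm_append_singleton _ _).symm
  exact ⟨_, hp, fin_spec (I.D.perm hp.symm) (fun p hp => ((h1 p).1 hp).elim And.left (I.pr p)) h2⟩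

theorem cnt_le {c : ℕ} (hc : 0 < c) {l : List P} (h : ∀ y ∈ l, c ≤ y.2) : cnt g l (fun _ => true) ≤ l.length * (g / c) := by
  induction l with
  | nil => exact Nat.zero_le _
  | cons y u ih =>
    rw [cnt_cons, if_pos rfl, List.length_cons, add_mul, one_mul, add_comm]
    exact add_le_add (ih fun z hz => h z (List.mem_cons_of_mem _ hz)) (Nat.div_le_div_left (h y List.mem_cons_self) hc)

theorem le_hiB {G0 r a b c j : ℕ} (hb : 0 < b) (h5 : 5 ≤ j) (hG : G0 ≤ c * j) (h1 : b ≤ a * (c * j))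
    (h : a * (c * j) ≤ b * (r * j + 1)) : c ≤ hiB G0 r a b := by
  have a0 : 0 < a := Nat.pos_of_ne_zero fun e => by rw [e, zero_mul] at h1; omega
  have e1 : c ≤ (5 * r + 1) * b / (5 * a) := (Nat.le_div_iff_mul_le (by omega)).2
    (Nat.le_of_mul_le_mul_right (c := j) (by nlinarith) (by omega))
  change c ≤ cnd (Nat.blt b (a * G0)) (cnd (Nat.ble ((5 * r + 1) * b / (5 * a)) (r * b * G0 / (a * G0 - b)))
    ((5 * r + 1) * b / (5 * a)) (r * b * G0 / (a * G0 - b))) ((5 * r + 1) * b / (5 * a))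
  simp only [cnd_eq, Nat.blt_eq]
  split_ifs with h2 h3
  · exact e1
  · obtain ⟨u, hu⟩ := Nat.exists_eq_add_of_le h2.le
    rw [hu, Nat.add_sub_cancel_left]
    refine (Nat.le_div_iff_mul_le (by omega)).2 (Nat.le_of_mul_le_mul_right (c := j) ?_ (by omega))
    have h4 := Nat.mul_le_mul_left G0 h
    have h6 := Nat.mul_le_mul_left b hG
    have h7 : G0 * (a * (c * j)) = (b + u) * (c * j) := by rw [← hu]; ring
    nlinarith
  · exact e1

theorem inner_spec {r : ℕ} {N : ℕ → ℕ → ℕ → ℕ → List P → List P → List ℕ → Bool} {a b cm om : ℕ} {pre dem : List P}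
    {ps : List ℕ} {x : P} {suf : List P} (I : Inv M g a b cm om pre dem ps (x :: suf)) (hr : suf.length = r + 1)
    (h : inner M r N a b cm om pre dem ps x.2 = true) :
    ∃ a' b' dem' ps', Inv M g a' b' x.2 x.1 (x :: pre) dem' ps' suf ∧ N a' b' x.2 x.1 (x :: pre) dem' ps' = true := by
  have hxL : x ∈ pre ++ x :: suf := by simp
  obtain ⟨x1, x2, ⟨j, x3⟩, x4, x5⟩ := I.D.dv x hxL
  have hs := List.pairwise_cons.1 I.srt
  simp only [inner, cnd_imp, force_eq] at h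
  obtain ⟨dem', ps', h1, h2, h3⟩ := tr_spec I.D hs.1 (I.lo x List.mem_cons_self) I.dm I.pr hr.le (h (I.D.mc x hxL))
  have b0 := I.b0
  have e := I.eq
  rw [cnt_cons, if_pos rfl, show g / x.2 = j by rw [x3, Nat.mul_div_cancel_left _ (by omega)]] at e
  change N ((a * x.2 - b) / Nat.gcd (a * x.2 - b) (b * x.2)) (b * x.2 / Nat.gcd (a * x.2 - b) (b * x.2)) _ _ _ _ _ = _ at h3
  have d0 : 0 < Nat.gcd (a * x.2 - b) (b * x.2) := Nat.gcd_pos_of_pos_right _ (by positivity)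
  obtain ⟨a', ha⟩ := Nat.gcd_dvd_left (a * x.2 - b) (b * x.2)
  obtain ⟨b', hb⟩ := Nat.gcd_dvd_right (a * x.2 - b) (b * x.2)
  generalize Nat.gcd (a * x.2 - b) (b * x.2) = d at *
  rw [ha, hb, Nat.mul_div_cancel_left _ d0, Nat.mul_div_cancel_left _ d0] at h3
  refine ⟨a', b', dem', ps', ⟨I.D.perm List.perm_middle, hs.2, hs.1, h1, fun p hp => ((h2 p).1 hp).elim And.left (I.pr p),
    Nat.pos_of_mul_pos_left (a := d) (by rw [← hb]; positivity), fun q hq h4 => (h2 q).2 ?_, Nat.eq_of_mul_eq_mul_left d0 ?_⟩, h3⟩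
  · exact (hq.dvd_mul.1 (hb ▸ h4.mul_left d)).symm.imp (fun h => ⟨hq, h⟩) (I.pb q hq)
  · rw [← mul_assoc, ← mul_assoc, ← ha, ← hb, Nat.sub_mul]
    refine Nat.sub_eq_of_eq_add ?_
    rw [mul_right_comm, e]
    generalize cnt g suf (fun _ => true) = S
    rw [x3]; ring

theorem node_spec (r : ℕ) : ∀ {a b cm om : ℕ} {pre dem : List P} {ps : List ℕ} {suf : List P},
    Inv M g a b cm om pre dem ps suf → suf.length = r + 1 → node M r a b cm om pre dem ps = true → Acc M g (pre ++ suf) := by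
  induction r with
  | zero =>
    intro a b cm om pre dem ps suf I hr h
    obtain ⟨x, rfl⟩ := List.length_eq_one_iff.1 hr
    exact leaf_spec I h
  | succ r ih =>
    intro a b cm om pre dem ps suf I hr h
    obtain _ | ⟨x, suf⟩ := suf
    · exact absurd hr (by simp)
    have hxL : x ∈ pre ++ x :: suf := by simp
    obtain ⟨x1, x2, ⟨j, x3⟩, x4, x5⟩ := I.D.dv x hxL
    have hs := List.pairwise_cons.1 I.srt
    have b0 := I.b0
    have ej : g / x.2 = j := by rw [x3, Nat.mul_div_cancel_left _ (by omega)]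
    have e := I.eq
    have e1 := cnt_le (g := g) (c := x.2) (l := x :: suf) (by omega) fun y hy => (List.mem_cons.1 hy).elim (fun h => h ▸ le_rfl)
      fun h => (hs.1 y h).elim le_of_lt fun h => h.1.le
    rw [hr, ej] at e1
    have e2 : j ≤ cnt g (x :: suf) fun _ => true := by rw [cnt_cons, if_pos rfl, ej]; omega
    generalize cnt g (x :: suf) (fun _ => true) = S at e e1 e2
    have j5 : 5 ≤ j := Nat.le_of_mul_le_mul_right (c := x.2) (by rw [mul_comm j, ← x3]; exact x5) (by omega)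
    have h1 : x.2 ≤ hiB M.G0 (r + 1 + 1) a b := le_hiB b0 j5 (x3 ▸ I.D.g0) (by rw [← x3, e]; nlinarith)
      (by rw [← x3, e]; exact Nat.mul_le_mul_left _ (by omega))
    have h2 : b / a < x.2 := by
      have h3 : b < x.2 * a := Nat.lt_of_mul_lt_mul_right (a := j) (by
        rw [x3] at e; nlinarith)
      exact (Nat.div_lt_iff_lt_mul (Nat.pos_of_mul_pos_left (b0.trans h3))).2 h3
    have h3 : cm ≤ x.2 := (I.lo x List.mem_cons_self).elim le_of_lt fun h => h.1.le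
    have h4 : cnd (Nat.ble (b / a + 1) cm) cm (b / a + 1) ≤ x.2 := by rw [cnd_eq]; split_ifs <;> omega
    change allR _ (hiB M.G0 (r + 1 + 1) a b + 1 - cnd (Nat.ble (b / a + 1) cm) cm (b / a + 1))
      (cnd (Nat.ble (b / a + 1) cm) cm (b / a + 1)) = true at h
    obtain ⟨a', b', dem', ps', I', h5⟩ := inner_spec I (by simpa using hr) (allR_spec _ _ x.2 h h4 (by omega))
    obtain ⟨l, h6, h7⟩ := ih I' (by simpa using hr) h5
    exact ⟨l, h6.trans List.perm_middle.symm, h7⟩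

theorem main {L dem : List P} {r : ℕ} (hD : Dat M g L) (hr : L.length = r + 1) (hd : Dm dem L)
    (h : node M r 1 1 4 0 [] dem [] = true) : Acc M g L := by
  classical
  let R : P → P → Bool := fun x y => decide (x.2 < y.2 ∨ x.2 = y.2 ∧ y.1 ≤ x.1)
  have hp := List.mergeSort_perm L R
  have hs : (L.mergeSort R).Pairwise fun x y => R x y = true := List.pairwise_mergeSort
    (fun x y z h1 h2 => by simp only [R, decide_eq_true_eq] at *; omega)
    (fun x y => by simp only [R, Bool.or_eq_true, decide_eq_true_eq]; omega) L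
  obtain ⟨l, h1, h2⟩ := node_spec (g := g) (suf := L.mergeSort R) (ps := []) (pre := []) r ⟨hD.perm hp.symm, hs.imp fun h => of_decide_eq_true h,
    fun y hy => Or.inl (hD.dv y (hp.mem_iff.1 hy)).2.2.2.1, fun d h => by simpa only [hp.mem_iff] using hd d h,
    fun _ h => (nomatch h), one_pos, fun q hq h => absurd (Nat.dvd_one.1 h) hq.ne_one,
    by rw [one_mul, one_mul, cnt_perm g hp, hD.sum]⟩ (hp.length_eq.trans hr) h
  exact ⟨l, h1.trans hp, h2⟩

end Cfsg.Lib.KC
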