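import Cfsg.Agent.Lib.KC.C
import Cfsg.Agent.Lib.Small.Simple
import Cfsg.Agent.Lib.Invol.Sylow2
import Cfsg.Agent.Lib.Char.Integral
import Cfsg.Agent.Lib.Invol.Classes
import Cfsg.Agent.S0238
import Cfsg.Agent.S3993

/-! # The class data of a finite simple group -/

namespace Cfsg.Lib.KC
open Cfsg Subgroup Cfsg.Lib.Invol

variable {G : Type*} [Group G] [Finite G]

noncomputable def dt (x : G) : P := (orderOf x, Nat.card (centralizer ({x} : Set G)))

omit [Finite G] in
theorem dt_conj {x y : G} (h : IsConj x y) : dt x = dt y :=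
  Prod.ext (orderOf_of_isConj h) (card_centralizer_of_isConj h)

noncomputable def rp (C : ConjClasses G) : G := C.exists_rep.choose

omit [Finite G] in
theorem mk_eq {C : ConjClasses G} {x : G} : ConjClasses.mk x = C ↔ IsConj (rp C) x := by
  conv_lhs => rw [← C.exists_rep.choose_spec]
  rw [eq_comm, ConjClasses.mk_eq_mk_iff_isConj]; rfl

open Classical in
noncomputable def FS (G : Type*) [Group G] [Finite G] : Finset (ConjClasses G) :=
  (@Finset.univ _ (Fintype.ofFinite _)).filter fun C => rp C ≠ 1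

noncomputable def LL (G : Type*) [Group G] [Finite G] : List P := (FS G).toList.map fun C => dt (rp C)

theorem mem_LL {y : P} : y ∈ LL G ↔ ∃ x : G, x ≠ 1 ∧ dt x = y := by
  simp only [LL, FS, List.mem_map, Finset.mem_toList, Finset.mem_filter, Finset.mem_univ, true_and]
  refine ⟨fun ⟨C, h⟩ => ⟨_, h⟩, fun ⟨x, h1, h2⟩ => ?_⟩
  have h := mk_eq.1 (rfl : ConjClasses.mk x = _)
  exact ⟨ConjClasses.mk x, fun e => h1 (isConj_one_right.1 (e ▸ h)), (dt_conj h).trans h2⟩

theorem card_FS : (FS G).card + 1 = Nat.card (ConjClasses G) := by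
  classical
  let := Fintype.ofFinite (ConjClasses G)
  have : FS G = Finset.univ.erase (ConjClasses.mk 1) := by
    ext C
    simp only [FS, Finset.mem_filter, Finset.mem_univ, true_and, Finset.mem_erase, and_true, ne_eq]
    rw [eq_comm (a := C), mk_eq, isConj_one_left]
  rw [this, Finset.card_erase_add_one (Finset.mem_univ _), Nat.card_eq_fintype_card, Finset.card_univ]

theorem card_cls (x : G) : Nat.card {y : G // IsConj x y} = Nat.card G / (dt x).2 := by
  rw [← card_isConj_mul x]; exact (Nat.mul_div_cancel _ Nat.card_pos).symm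

theorem cnt_LL (q : ℕ → Bool) : cnt (Nat.card G) (LL G) q = Nat.card {x : G // q (orderOf x) = true ∧ x ≠ 1} := by
  classical
  let := Fintype.ofFinite (ConjClasses G)
  rw [cnt_eq, LL, List.map_map, Finset.sum_map_toList, card_eq_sum_fibers _ ConjClasses.mk, FS, Finset.sum_filter]
  refine Finset.sum_congr rfl fun C _ => ?_
  simp only [mk_eq, Function.comp]
  split_ifs with h1 h2
  · rw [← card_cls]
    exact card_congr_iff fun y => ⟨fun h => ⟨⟨orderOf_of_isConj h ▸ h2, fun e => h1 (isConj_one_left.1 (e ▸ h))⟩, h⟩,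
      fun h => h.2⟩
  · have : IsEmpty {a : G // (q (orderOf a) = true ∧ a ≠ 1) ∧ IsConj (rp C) a} :=
      ⟨fun ⟨a, h⟩ => h2 (by have := h.1.1; rwa [← orderOf_of_isConj h.2] at this)⟩
    exact Nat.card_of_isEmpty.symm
  · have : IsEmpty {a : G // (q (orderOf a) = true ∧ a ≠ 1) ∧ IsConj (rp C) a} :=
      ⟨fun ⟨a, h⟩ => h.1.2 (isConj_one_right.1 (not_not.1 h1 ▸ h.2))⟩
    exact Nat.card_of_isEmpty.symm

theorem bf {t : G} (ht : orderOf t = 2) : Nat.card G ≤ (FS G).card * ((dt t).2 * (dt t).2) + (dt t).2 := by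
  classical
  have hmn := card_isConj_mul t
  change _ * (dt t).2 = _ at hmn
  have hc : Nat.card {y : G // IsConj t y} * Nat.card {y : G // IsConj t y} ≤
      Nat.card {y : G // IsConj t y} + (FS G).card * Nat.card G := by
    rw [← card_prod_and, card_split _ (fun p : G × G => p.1 * p.2 = 1)]
    apply Nat.add_le_add
    · refine card_le_of_inj Prod.fst (fun p hp => hp.1.1) ?_
      rintro ⟨u, v⟩ ⟨u', v'⟩ ⟨-, h1⟩ ⟨-, h2⟩ h3
      simp only at h1 h2 h3
      subst h3
      rw [mul_left_cancel (h1.trans h2.symm)]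
    · rw [← Nat.card_eq_finsetCard (FS G)]
      refine card_le_mul_of_fibers (q := fun C => C ∈ FS G) (fun p : G × G => ConjClasses.mk (p.1 * p.2)) (fun p hp => ?_)
        fun C _ => ?_
      · simp only [FS, Finset.mem_filter, Finset.mem_univ, true_and]
        exact fun e => hp.2 (isConj_one_right.1 (e ▸ mk_eq.1 rfl))
      rw [← card_isConj_mul (rp C)]
      refine card_le_mul_of_fibers (fun p : G × G => p.1 * p.2) (fun p hp => mk_eq.1 hp.2) fun y hy => ?_
      rw [card_centralizer_of_isConj hy]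
      refine le_trans ?_ (Cfsg.Agent.S0238.result y).1
      exact card_le_of_imp fun p hp => ⟨(orderOf_of_isConj hp.1.1.1.1).symm.trans ht,
        (orderOf_of_isConj hp.1.1.1.2).symm.trans ht, hp.2⟩
  have g0 : 0 < Nat.card G := Nat.card_pos
  generalize Nat.card {y : G // IsConj t y} = m, (dt t).2 = c, (FS G).card = k, Nat.card G = g at *
  refine Nat.le_of_mul_le_mul_left ?_ g0
  have := Nat.mul_le_mul_right (c * c) hc
  subst hmn
  nlinarith

theorem exists_cen {p : ℕ} (hp : p.Prime) (h : p ∣ Nat.card G) :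
    ∃ z : G, orderOf z = p ∧ ∀ i, p ^ i ∣ Nat.card G → p ^ i ∣ (dt z).2 := by
  have := Fact.mk hp
  obtain ⟨S⟩ : Nonempty (Sylow p G) := inferInstance
  have h1 : Nontrivial S := (S : Subgroup G).nontrivial_iff_ne_bot.2 (S.ne_bot_of_dvd_card h)
  have h2 := S.2.center_nontrivial
  obtain ⟨n, hn, h3⟩ := (S.2.to_subgroup (center S)).nontrivial_iff_card.1 h2
  obtain ⟨z, hz⟩ := exists_prime_orderOf_dvd_card' (G := center S) p (h3 ▸ dvd_pow_self p hn.ne')
  refine ⟨z, by rw [orderOf_coe, orderOf_coe, hz], fun i hi => (S.pow_dvd_card_of_pow_dvd_card hi).trans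
    (card_dvd_of_le fun y hy => mem_cent.2 (congrArg Subtype.val (mem_center_iff.1 z.2 ⟨y, hy⟩)))⟩

theorem dat [IsSimpleGroup G] (hnc : ¬ IsMulCommutative G) {M : Md} (hk : Nat.card (ConjClasses G) = M.k + 1)
    (h3 : ∀ x : G, x ≠ 1 → (dt x).2 ≠ 3) (h8 : ∀ x : G, orderOf x = 2 ∨ orderOf x = 4 → 8 ∣ (dt x).2)
    (h0 : M.G0 ≤ Nat.card G) (h24 : 24 < Nat.card G) (hc : ∀ x : G, M.mc (dt x).2 = true) (hg : M.mg (Nat.card G) = true) :
    Dat M (Nat.card G) (LL G) ∧ (LL G).length = M.k := by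
  have hF : (FS G).card = M.k := by have := card_FS (G := G); omega
  have g0 : 0 < Nat.card G := Nat.card_pos
  refine ⟨⟨?_, ?_, ?_, ?_, fun p i hp h1 h2 => ?_, ?_, ?_, fun m hm => ?_, fun p hp h1 h2 => ?_, ?_, h0, ?_, hg⟩,
    by rw [LL, List.length_map, Finset.length_toList, hF]⟩
  all_goals try simp only [mem_LL, forall_exists_index, and_imp, forall_apply_eq_imp_iff₂]
  · rw [cnt_LL, ← card_remove (p := fun _ : G => true = true) rfl]
    exact Nat.card_congr (Equiv.subtypeUnivEquiv fun _ => rfl)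
  · intro x hx
    have a1 : 1 < orderOf x := lt_of_le_of_ne (orderOf_pos x) (mt (fun e => orderOf_eq_one_iff.1 e.symm) hx)
    have a2 : orderOf x ∣ (dt x).2 := (centralizer ({x} : Set G)).orderOf_dvd_natCard (mem_cent.2 (Commute.refl x))
    refine ⟨a1, a2, card_subgroup_dvd_card _, ?_, ?_⟩
    · by_contra h
      have a3 : 0 < (dt x).2 := Nat.card_pos
      have a4 := Nat.le_of_dvd a3 a2
      have a5 := h3 x hx
      have a6 := h8 x
      have a7 : orderOf x = 3 → 3 ∣ (dt x).2 := fun e => e ▸ a2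
      omega
    · have hC : centralizer ({x} : Set G) ≠ ⊤ := fun h => hx (by
        have h1 : x ∈ center G := centralizer_eq_top_iff_subset.1 h rfl
        rwa [Small.center_eq_bot_of_simple hnc, mem_bot] at h1)
      have a3 := Nat.le_of_dvd (Nat.factorial_pos _) (card_dvd_factorial_index hC)
      rw [← (centralizer ({x} : Set G)).index_mul_card]
      refine Nat.mul_le_mul_right _ (not_lt.1 fun h => ?_)
      have := Nat.factorial_le (show (centralizer ({x} : Set G)).index ≤ 4 by omega)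
      have : Nat.factorial 4 = 24 := rfl
      omega
  · intro x hx p hp h1 h2
    have := Fact.mk hp
    obtain ⟨y, hy⟩ := exists_prime_orderOf_dvd_card' (G := centralizer ({x} : Set G)) p h1
    have a1 : Commute x y := (mem_cent.1 y.2).symm
    have a2 : orderOf (y : G) = p := by rw [orderOf_coe, hy]
    have a3 : (orderOf x).Coprime p := ((Nat.Prime.coprime_iff_not_dvd hp).2 h2).symm
    have a4 : orderOf (x * y) = orderOf x * p := by rw [a1.orderOf_mul_eq_mul_orderOf_of_coprime (a2 ▸ a3), a2]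
    refine ⟨dt (x * y), ⟨_, fun e => ?_, rfl⟩, a4, card_dvd_of_le fun z hz => mem_cent.2 ?_⟩
    · rw [e, orderOf_one] at a4
      exact hp.ne_one (Nat.eq_one_of_mul_eq_one_left a4.symm)
    · obtain ⟨k, hk⟩ := mem_zpowers_pow_iff.2 (show p.gcd (orderOf x) = 1 from a3.symm)
      have a5 : (x * y) ^ p = x ^ p := by rw [a1.mul_pow, ← a2, pow_orderOf_eq_one, mul_one]
      rw [← hk, ← a5]
      exact ((mem_cent.1 hz).pow_right p).zpow_right k
  · intro x hx d h1 h2
    have a1 : orderOf (x ^ (orderOf x / d)) = d := orderOf_pow_orderOf_div (orderOf_pos x).ne' h1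
    refine ⟨dt (x ^ (orderOf x / d)), ⟨_, fun e => ?_, rfl⟩, a1, card_dvd_of_le fun z hz => mem_cent.2 ((mem_cent.1 hz).pow_right _)⟩
    rw [e, orderOf_one] at a1; omega
  · obtain ⟨z, a1, a2⟩ := exists_cen hp h1
    exact ⟨dt z, ⟨z, fun e => hp.ne_one (by rw [← a1, e, orderOf_one]), rfl⟩, a1, a2 i h2⟩
  · exact fun x _ => h8 x
  · exact fun x _ h => hF ▸ bf h
  · rw [cnt_LL, ← card_remove (p := fun x : G => dvB (orderOf x) m = true) (by rw [orderOf_one, dvB_iff]; exact one_dvd _),
      card_congr_iff (q := fun x : G => x ^ m = 1) fun x => by rw [dvB_iff, orderOf_dvd_iff_pow_eq_one]]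
    exact Cfsg.Agent.S3993.result m hm
  · have := Fact.mk hp
    obtain ⟨m, hm⟩ := h1
    obtain ⟨S⟩ : Nonempty (Sylow p G) := inferInstance
    refine ⟨Nat.card (Sylow p G), S.card_dvd_index.trans (index_dvd_card _), ?_⟩
    rw [cnt_LL, ← Small.card_orderOf_eq_prime S ((Small.card_sylow_subgroup_eq S (m := m) (by rw [pow_one, hm])
      fun h => h2 (hm ▸ Nat.mul_dvd_mul_left p h)).trans (pow_one p))]
    exact card_congr_iff fun x => ⟨fun h => (Nat.beq_eq ▸ h.1 : p = orderOf x).symm, fun h => ⟨by rw [Nat.beq_eq, h],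
      fun e => hp.ne_one (by rw [← h, e, orderOf_one])⟩⟩
  · intro x hx p i hp h
    refine hnc ⟨⟨Char.comm_of_isSimpleGroup_of_prime_pow_class (k := i) hp hx ?_⟩⟩
    rw [← h, ← (centralizer ({x} : Set G)).index_mul_card]
    exact (Nat.mul_div_cancel _ Nat.card_pos).symm
  · exact fun x _ => hc x

end Cfsg.Lib.KC
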