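import Cfsg.Agent.Lib.KC.E0b

/-! # Class equations with nine classes, non-abelian Sylow 2-subgroup, part c -/

namespace Cfsg.Lib.KC

theorem a3 : allR (inner M90 4 (node M90 4) 3 5 5 5 [(5, 5), (5, 5)] [(2, 16), (4, 8)] [5]) 5 6 = true := by decide +kernel

end Cfsg.Lib.KC
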