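import Cfsg.Agent.Lib.KC.E0c

/-! # Class equations with nine classes, non-abelian Sylow 2-subgroup, part f -/

namespace Cfsg.Lib.KC

theorem a6 : allR (inner M90 3 (node M90 3) 2 5 5 5 [(5, 5), (5, 5), (5, 5)] [(2, 16), (4, 8)] [5]) 6 7 = true := by decide +kernel

end Cfsg.Lib.KC
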