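import Cfsg.Agent.Lib.KC.E0a
import Cfsg.Agent.Lib.KC.E0b
import Cfsg.Agent.Lib.KC.E0c
import Cfsg.Agent.Lib.KC.E0d
import Cfsg.Agent.Lib.KC.E0e
import Cfsg.Agent.Lib.KC.E0f

/-! # Class equations with nine classes, non-abelian Sylow 2-subgroup -/

namespace Cfsg.Lib.KC
open Cfsg.Lib.Comp

theorem allR_cons {f : ℕ → Bool} {n lo : ℕ} (h1 : f lo = true) (h2 : allR f n (lo + 1) = true) : allR f (n + 1) lo = true := by
  change cnd (f lo) (allR f n (lo + 1)) false = true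
  rw [h1, h2]; rfl


theorem b1 (N : ℕ → ℕ → ℕ → ℕ → List P → List P → List ℕ → Bool) : inner M90 6 N 1 1 4 0 [] [(2, 16), (4, 8)] [] 5 =
    cnd (N 4 5 5 5 [(5, 5)] [(2, 16), (4, 8)] [5]) true false := rfl
theorem b2 (N : ℕ → ℕ → ℕ → ℕ → List P → List P → List ℕ → Bool) : inner M90 5 N 4 5 5 5 [(5, 5)] [(2, 16), (4, 8)] [5] 5 =
    cnd (N 3 5 5 5 [(5, 5), (5, 5)] [(2, 16), (4, 8)] [5]) true false := rfl

theorem b3 (N : ℕ → ℕ → ℕ → ℕ → List P → List P → List ℕ → Bool) : inner M90 4 N 3 5 5 5 [(5, 5), (5, 5)] [(2, 16), (4, 8)] [5] 5 =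
    cnd (N 2 5 5 5 [(5, 5), (5, 5), (5, 5)] [(2, 16), (4, 8)] [5]) true false := rfl

theorem node_succ (M : Md) (r a b cm om : ℕ) (pre dem : List P) (ps : List ℕ) {n lo : ℕ}
    (h1 : cnd (Nat.ble (b / a + 1) cm) cm (b / a + 1) = lo) (h2 : hiB M.G0 (r + 1 + 1) a b + 1 - lo = n + 1)
    (h3 : inner M r (node M r) a b cm om pre dem ps lo = true)
    (h4 : allR (inner M r (node M r) a b cm om pre dem ps) n (lo + 1) = true) :
    node M (r + 1) a b cm om pre dem ps = true := by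
  subst h1
  have := allR_cons h3 h4
  rw [← h2] at this
  exact this

theorem run90 : node M90 7 1 1 4 0 [] [(2, 16), (4, 8)] [] = true := by
  have h0 := node_succ M90 3 _ _ _ _ _ _ _ (by decide +kernel) (by decide +kernel) a4 (allR_cons a5 a6)
  have h1 := node_succ M90 4 _ _ _ _ _ _ _ (by decide +kernel) (by decide +kernel) (by rw [b3, h0]; rfl) a3
  have h2 := node_succ M90 5 _ _ _ _ _ _ _ (by decide +kernel) (by decide +kernel) (by rw [b2, h1]; rfl) a2
  exact node_succ M90 6 _ _ _ _ _ _ _ (lo := 4) (n := 4) (by decide +kernel) (by decide +kernel) (by decide +kernel)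
    (allR_cons (lo := 5) (by rw [b1, h2]; rfl) a1)

end Cfsg.Lib.KC
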