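import Cfsg.Agent.Lib.KC.A

/-! # Class equations with nine classes, Sylow 2-subgroup of order eight -/

namespace Cfsg.Lib.KC

theorem run91 : node M91 7 1 1 4 0 [] [(2, 8), (3, 3), (7, 7)] [] = true := by decide +kernel

end Cfsg.Lib.KC
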