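import Cfsg.Agent.Lib.KC.D
import Cfsg.Agent.Lib.Exc.Chz
import Cfsg.Agent.Lib.Fus.UT3
import Cfsg.Agent.Lib.Fus.SylowMod
import Cfsg.Agent.Lib.BS.Cor
import Cfsg.Agent.S0506
import Cfsg.Agent.S0496
import Cfsg.Agent.S3331
import Cfsg.Agent.S2480
import Cfsg.Agent.S4201
import Cfsg.Agent.S2325
import Cfsg.Agent.S2331

/-! # Sylow 2-structure and class numbers of known groups -/

namespace Cfsg.Lib.KC
open Cfsg Subgroup Cfsg.Lib.Invol Cfsg.Lib.Transfer Matrix

variable {G : Type*} [Group G] [Finite G]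

theorem k_le {H : Type*} [Group H] (f : G →* H) (hf : Function.Surjective f) :
    Nat.card (ConjClasses H) ≤ Nat.card (ConjClasses G) :=
  Nat.card_le_card_of_surjective _ (ConjClasses.map_surjective hf)

theorem k_congr {H : Type*} [Group H] (e : G ≃* H) : Nat.card (ConjClasses G) = Nat.card (ConjClasses H) :=
  have := Finite.of_equiv _ e.toEquiv
  le_antisymm (k_le e.symm.toMonoidHom e.symm.surjective) (k_le e.toMonoidHom e.surjective)

theorem psl2_k {F : Type*} [Field F] [Fintype F] (e : G ≃* ProjectiveSpecialLinearGroup (Fin 2) F) :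
    Fintype.card F % 2 = 0 ∧ Nat.card (ConjClasses G) = Fintype.card F + 1 ∨
      Fintype.card F % 2 = 1 ∧ 2 * Nat.card (ConjClasses G) = Fintype.card F + 5 := by
  have h1 := Cfsg.Agent.S4201.result (center (SpecialLinearGroup (Fin 2) F))
  have h2 := (Cfsg.Agent.S2480.result (F := F) 2 le_rfl).2
  have h3 := k_le (QuotientGroup.mk' (center (SpecialLinearGroup (Fin 2) F))) (QuotientGroup.mk'_surjective _)
  have h4 : Nat.card (center (SpecialLinearGroup (Fin 2) F)) = Nat.gcd 2 (Fintype.card F - 1) := by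
    have := Linear.gcd_mul_card_PSL (ι := Fin 2) (F := F)
    rw [Linear.card_SL_eq_card_center_mul_card_PSL, Fintype.card_fin, Nat.card_eq_fintype_card] at this
    exact (Nat.eq_of_mul_eq_mul_right Nat.card_pos this).symm
  have h5 := (Nat.card_le_card_of_surjective _ (ConjClasses.mk_surjective (α := center (SpecialLinearGroup (Fin 2) F)))).trans h4.le
  have h6 := h1.trans (Nat.mul_le_mul_right _ h5)
  change _ ≤ _ * Nat.card (ConjClasses (ProjectiveSpecialLinearGroup (Fin 2) F)) at h6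
  change Nat.card (ConjClasses (ProjectiveSpecialLinearGroup (Fin 2) F)) ≤ _ at h3
  rw [k_congr e]
  have q1 := Fintype.one_lt_card (α := F)
  rcases Nat.mod_two_eq_zero_or_one (Fintype.card F) with h | h
  · obtain ⟨p, hp⟩ := CharP.exists F
    obtain ⟨n, hp', hn⟩ := FiniteField.card F p
    obtain rfl : 2 = p := (Nat.prime_dvd_prime_iff_eq Nat.prime_two hp').1
      (Nat.prime_two.dvd_of_dvd_pow (hn ▸ Nat.dvd_of_mod_eq_zero h))
    rw [Cfsg.Agent.S2331.result] at h3 h6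
    rw [Nat.gcd_rec, show (Fintype.card F - 1) % 2 = 1 by omega, Nat.gcd_one_left] at h6
    omega
  · rw [Cfsg.Agent.S2325.result (Nat.odd_iff.2 h)] at h6
    rw [Nat.gcd_rec, show (Fintype.card F - 1) % 2 = 0 by omega, Nat.gcd_zero_left] at h2 h6
    simp only [Nat.add_one_sub_one, pow_one, tsub_self, pow_zero] at h2
    omega

theorem no3 [IsSimpleGroup G] (hnc : ¬ IsMulCommutative G) (h : 168 < Nat.card G) (x : G) (hx : x ≠ 1) : (dt x).2 ≠ 3 := by
  intro h3
  change Nat.card _ = 3 at h3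
  have h1 : zpowers x ≤ centralizer {x} := zpowers_le.2 (mem_cent.2 (Commute.refl x))
  have h2 : Nat.card (zpowers x) = 3 := ((Nat.dvd_prime Nat.prime_three).1 (h3 ▸ card_dvd_of_le h1)).resolve_left
    fun e => hx (zpowers_eq_bot.1 (card_eq_one.1 e))
  have h4 : centralizer (zpowers x : Set G) = zpowers x := by
    rw [zpowers_eq_closure, centralizer_closure, ← zpowers_eq_closure]
    exact (eq_of_le_of_card_ge h1 (by rw [h2, h3])).symm
  have hb : ∀ (N : Subgroup G) [N.Normal], N = ⊥ → Nat.card (G ⧸ N) = Nat.card G := by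
    rintro _ _ rfl; exact Nat.card_congr QuotientGroup.quotientBot.toEquiv
  rcases Cfsg.Agent.S3331.result _ h2 h4 with ⟨N, hN, a1, -, a2⟩ | ⟨N, hN, a1, -, ⟨e⟩⟩ | ⟨⟨e⟩⟩
  · rcases hN.eq_bot_or_eq_top with b | rfl
    · rw [← hb N b] at h
      rcases a2 with a2 | ⟨⟨e⟩⟩
      · omega
      · rw [Nat.card_congr e.toEquiv, Nat.card_perm, Nat.card_fin] at h
        exact absurd h (by decide)
    · have := Group.nilpotent_of_mulEquiv (topEquiv (G := G))
      exact hnc ⟨⟨IsSimpleGroup.comm_iff_isSolvable.2 inferInstance⟩⟩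
  · rcases hN.eq_bot_or_eq_top with b | rfl
    · have := two_mul_nat_card_alternatingGroup (α := Fin 5)
      rw [← Nat.card_congr e.toEquiv, hb N b, Nat.card_perm, Nat.card_fin, show Nat.factorial 5 = 120 from rfl] at this
      omega
    · exact hnc ⟨⟨fun a b => congrArg Subtype.val (a1.is_comm.comm ⟨a, trivial⟩ ⟨b, trivial⟩)⟩⟩
  · have : Fact (Nat.Prime 7) := ⟨by norm_num⟩
    have := Linear.card_PSL_two_of_odd (F := ZMod 7) (by rw [Nat.card_zmod]; decide)
    rw [← Nat.card_congr e.toEquiv, Nat.card_zmod] at this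
    omega

theorem psl3_no8 {F : Type*} [Field F] [Fintype F] (hF : Fintype.card F = 4) (e : G ≃* ProjectiveSpecialLinearGroup (Fin 3) F)
    (x : G) : (dt x).2 ≠ 8 := by
  intro h8
  have := BS.charP_two_of_card (n := 2) hF
  have := Fact.mk Nat.prime_two
  let π : SpecialLinearGroup (Fin 3) F →* G := e.symm.toMonoidHom.comp (QuotientGroup.mk' _)
  have hπ : Function.Surjective π := e.symm.surjective.comp (QuotientGroup.mk'_surjective _)
  have h1 : IsPGroup 2 (centralizer ({x} : Set G)) := IsPGroup.of_card (n := 3) h8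
  obtain ⟨g, hg⟩ := Fus.exists_conj_mem_of_isPGroup h1 (A := (Linear.slUnitri 3 F).map π)
    fun h => Linear.not_dvd_index_slUnitri 3 (h.trans (index_map_dvd _ hπ))
  obtain ⟨u, hu, h2⟩ := hg x (mem_cent.2 (Commute.refl x))
  obtain ⟨a, b, c, rfl⟩ := Fus.mem_slUnitri_three.1 hu
  rw [dt_conj (isConj_iff.2 ⟨g, rfl⟩), ← h2] at h8
  obtain ⟨a', b', h3, h4⟩ : ∃ a' b' : F, (a' ≠ 0 ∨ b' ≠ 0) ∧ a' * b = a * b' := by
    by_cases h : a ≠ 0 ∨ b ≠ 0
    · exact ⟨a, b, h, rfl⟩
    · push Not at h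
      exact ⟨1, 0, Or.inl one_ne_zero, by rw [h.2, mul_zero, mul_zero]⟩
  have h5 := Nat.card_le_card_of_injective (fun p : F × F => (⟨π (Fus.ut3 (p.1 * a') (p.1 * b') p.2), mem_cent.2
    (Commute.map (Fus.ut3_comm_iff.2 (by rw [mul_assoc, h4]; ring)) π)⟩ : centralizer ({π (Fus.ut3 a b c)} : Set G))) (by
      rintro ⟨s, t⟩ ⟨s', t'⟩ h
      have h6 := QuotientGroup.eq.1 (e.symm.injective (congrArg Subtype.val h))
      rw [Fus.ut3_inv, Fus.ut3_mul] at h6
      obtain ⟨r, -, hr⟩ := Matrix.SpecialLinearGroup.mem_center_iff.1 h6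
      have e1 := congrFun (congrFun hr 0) 1
      have e2 := congrFun (congrFun hr 1) 2
      have e3 := congrFun (congrFun hr 0) 2
      simp [Fus.ut3] at e1 e2 e3
      obtain rfl : s = s' := h3.elim (fun h => mul_right_cancel₀ h (by linear_combination e1))
        fun h => mul_right_cancel₀ h (by linear_combination e2)
      exact Prod.ext rfl (by linear_combination e3))
  rw [Nat.card_prod, Nat.card_eq_fintype_card, hF] at h5
  change Nat.card _ = 8 at h8
  omega

omit [Finite G] in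
theorem dvd_of_le {x y : G} {S : Subgroup G} (h : IsConj x y) (hS : ∀ s ∈ S, Commute s y) : Nat.card S ∣ (dt x).2 := by
  rw [dt_conj h]; exact card_dvd_of_le fun s hs => mem_cent.2 (hS s hs)

def E8 (G : Type*) [Group G] : Prop := ∀ x : G, orderOf x = 2 ∨ orderOf x = 4 → 8 ∣ (dt x).2

theorem modes [IsSimpleGroup G] (hnc : ¬ IsMulCommutative G) :
    ((∃ (F : Type) (_ : Field F) (_ : Fintype F), Nonempty (G ≃* ProjectiveSpecialLinearGroup (Fin 2) F)) ∨
      Nonempty (G ≃* alternatingGroup (Fin 7))) ∨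
    (16 ∣ Nat.card G ∧ (∃ w : G, orderOf w = 4) ∧ E8 G) ∨ ((IsRee G ∨ IsJ1 G) ∧ (8 ∣ Nat.card G → E8 G)) := by
  have := Fact.mk Nat.prime_two
  obtain ⟨S⟩ : Nonempty (Sylow 2 G) := inferInstance
  have hc : ∀ x : G, orderOf x = 2 ∨ orderOf x = 4 → ∃ y : S, IsConj x y := fun x hx => by
    obtain ⟨g, hg⟩ := exists_conj_mem_sylow S (k := 2) (x := x) (orderOf_dvd_iff_pow_eq_one.1 (by rcases hx with h | h <;> simp [h]))
    exact ⟨⟨_, hg⟩, isConj_iff.2 ⟨g, rfl⟩⟩
  by_cases hS : IsMulCommutative S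
  · rcases Cfsg.Agent.S0506.result hnc S hS with ⟨a, -, F, _, _, -, e⟩ | ⟨F, _, _, -, e⟩ | h
    · exact Or.inl (Or.inl ⟨F, _, inferInstance, e⟩)
    · exact Or.inl (Or.inl ⟨F, _, inferInstance, e⟩)
    refine Or.inr (Or.inr ⟨h, fun h8 x hx => ?_⟩)
    obtain ⟨y, hy⟩ := hc x hx
    exact (S.pow_dvd_card_of_pow_dvd_card (n := 3) h8).trans
      (dvd_of_le hy fun s hs => congrArg Subtype.val (hS.is_comm.comm ⟨s, hs⟩ y))
  by_cases h4 : ∃ w : S, Nat.card (centralizer ({w} : Set S)) = 4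
  · obtain ⟨w, hw⟩ := h4
    rcases Exc.dc2_or_qd hnc S hw with hD | hQ
    · exact Or.inl ((GW.known_of_simple G hnc hD).imp_left fun ⟨F, _, i, _, _, e⟩ => ⟨F, _, i, e⟩)
    obtain ⟨n, hn, h1, E, hE⟩ := ABG.exists_mc_qd hQ
    have h2 := E.fused_of_no2 hE (sylowIn_top S) (Exc.index_ne_two hnc)
    have h3 : 16 ∣ Nat.card S := h1 ▸ pow_dvd_pow 2 (show 4 ≤ n + 3 by omega)
    refine Or.inr (Or.inl ⟨h3.trans (card_subgroup_dvd_card _), ⟨_, E.r_four_iff.2 (Or.inl rfl)⟩, fun x hx => hx.elim (fun hx => ?_)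
      fun hx => ?_⟩)
    · exact ((show 8 ∣ 16 by norm_num).trans h3).trans (dvd_of_le ((E.two_cases' hE (sylowIn_top S) hx).elim id
        h2.1.isConj.trans).symm fun s hs => E.commute_c hs)
    · refine Dvd.dvd.trans ?_ (dvd_of_le (S := E.rot ⊤) ((E.four_cases' hE (sylowIn_top S) hx).elim id
        h2.2.isConj.trans).symm fun y hy => commute_of_mulComm (E.rot_comm ⊤) hy (E.r_mem_rot.2 trivial))
      rw [E.card_rot, AddSubgroup.card_top, Nat.card_zmod]
      exact pow_dvd_pow 2 (show 3 ≤ n + 2 by omega)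
  push Not at h4
  obtain ⟨a, b, hab⟩ : ∃ a b : S, ¬ Commute b a := by
    by_contra! h
    exact hS ⟨⟨fun a b => h b a⟩⟩
  have hn : Nontrivial S := ⟨a, 1, fun e => hab (e ▸ Commute.one_right b)⟩
  have h8 : ∀ w : S, 8 ∣ Nat.card (centralizer ({w} : Set S)) := fun w => by
    obtain ⟨n, hn⟩ := IsPGroup.iff_card.1 (S.2.to_subgroup (centralizer ({w} : Set S)))
    rw [hn]
    refine pow_dvd_pow 2 (show 3 ≤ n from not_lt.1 fun h => ?_)
    have h1 : Nat.card (centralizer ({w} : Set S)) ≤ 2 := by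
      have := h4 w
      rw [hn] at this ⊢
      interval_cases n <;> simp_all
    have h2 := S.2.center_nontrivial
    have h3 : center S = centralizer {w} := eq_of_le_of_card_ge (center_le_centralizer _)
      (h1.trans Finite.one_lt_card)
    have h5 : centralizer ({w} : Set S) = ⊤ := centralizer_eq_top_iff_subset.2 (Set.singleton_subset_iff.2
      (h3.ge (mem_cent.2 (Commute.refl w))))
    exact hab (mem_center_iff.1 ((h3.trans h5).ge (mem_top a)) b)
  refine Or.inr (Or.inl ⟨Dvd.dvd.trans ?_ (card_subgroup_dvd_card (S : Subgroup G)), ?_, fun x hx => ?_⟩)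
  · obtain ⟨n, hn⟩ := S.2.index (centralizer ({a} : Set S))
    rw [← (centralizer ({a} : Set S)).index_mul_card, hn]
    refine Nat.mul_dvd_mul (dvd_pow_self 2 fun e => ?_) (h8 a)
    rw [e, pow_zero, index_eq_one] at hn
    exact hab (mem_cent.1 (hn ▸ mem_top b))
  · obtain ⟨y, hy⟩ : ∃ y : S, y ^ 2 ≠ 1 := by
      by_contra! h
      exact hab (Commute.of_orderOf_dvd_two (fun g => orderOf_dvd_of_pow_eq_one (h g)) b a)
    obtain ⟨n, hn⟩ := IsPGroup.iff_orderOf.1 S.2 y
    have h1 : 4 ∣ orderOf y := hn ▸ pow_dvd_pow 2 (show 2 ≤ n from not_lt.1 fun h => hy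
      (orderOf_dvd_iff_pow_eq_one.1 (hn ▸ pow_dvd_pow 2 (show n ≤ 1 by omega))))
    exact ⟨(y ^ (orderOf y / 4) : S), by rw [orderOf_coe, orderOf_pow_orderOf_div (orderOf_pos y).ne' h1]⟩
  · obtain ⟨y, hy⟩ := hc x hx
    refine (h8 y).trans ?_
    rw [← card_map_of_injective (S : Subgroup G).subtype_injective]
    refine dvd_of_le hy ?_
    rintro _ ⟨s, hs, rfl⟩
    exact congrArg Subtype.val (mem_cent.1 hs)

omit [Finite G] in
theorem ree_card (h : IsRee G ∨ IsJ1 G) : Nat.card G % 112 = 56 ∧ 175560 ≤ Nat.card G ∧ 3 ∣ Nat.card G ∧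
    (Nat.card G = 175560 ∨ 19683 ∣ Nat.card G) := by
  rcases h with ⟨-, m, hm, h⟩ | ⟨-, h⟩
  · have h1 : ∀ m, 3 ^ (2 * m + 1) % 112 ∈ [3, 27, 19, 59, 83, 75] := fun m => by
      induction m with
      | zero => simp
      | succ m ih =>
        rw [show 2 * (m + 1) + 1 = 2 * m + 1 + 2 by ring, pow_add, Nat.mul_mod]
        simp only [List.mem_cons, List.not_mem_nil, or_false] at ih ⊢
        omega
    have h2 : 27 ∣ 3 ^ (2 * m + 1) := pow_dvd_pow 3 (show 3 ≤ 2 * m + 1 by omega)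
    have h3 : 0 < 3 ^ (2 * m + 1) := by positivity
    have h4 := h1 m
    generalize 3 ^ (2 * m + 1) = q at *
    have h5 : 19683 ∣ Nat.card G := h ▸ ((pow_dvd_pow_of_dvd h2 3).mul_right _).mul_right _
    refine ⟨?_, ?_, (show 3 ∣ 19683 by norm_num).trans h5, Or.inr h5⟩
    · have h6 : (q - 1) % 112 = q % 112 - 1 := by
        simp only [List.mem_cons, List.not_mem_nil, or_false] at h4; omega
      rw [h, Nat.mul_mod, Nat.mul_mod (q ^ 3), Nat.add_mod, Nat.pow_mod, h6]
      generalize q % 112 = r at h4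
      revert r; decide
    · have h6 := Nat.pow_le_pow_left (Nat.le_of_dvd h3 h2) 3
      rw [h]
      exact le_trans (by norm_num) (Nat.mul_le_mul (Nat.mul_le_mul h6 (Nat.succ_le_succ h6))
        (show 1 ≤ q - 1 by have := Nat.le_of_dvd h3 h2; omega))
  · rw [h]; decide

theorem big0 [IsSimpleGroup G] (hnc : ¬ IsMulCommutative G) (h : 16 ∣ Nat.card G) : 1104 ≤ Nat.card G := by
  by_contra h1
  have := Cfsg.Agent.S0496.result hnc (by omega)
  omega

theorem acc0 [IsSimpleGroup G] (hnc : ¬ IsMulCommutative G) {M : Md} {r : ℕ} (hk : Nat.card (ConjClasses G) = M.k + 1)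
    (hr : M.k = r + 1) (h16 : 16 ∣ Nat.card G) (h4 : ∃ w : G, orderOf w = 4) (h8 : E8 G) (h0 : M.G0 = 1104)
    (hc : ∀ c, M.mc c = true) (hg : ∀ c, M.mg c = true) (h : node M r 1 1 4 0 [] [(2, 16), (4, 8)] [] = true) :
    Acc M (Nat.card G) (LL G) := by
  have h1 := big0 hnc h16
  obtain ⟨hD, hl⟩ := dat hnc hk (no3 hnc (by omega)) h8 (h0 ▸ h1) (by omega) (fun _ => hc _) (hg _)
  refine main hD (hl.trans hr) (fun d hd => ?_) h
  simp only [List.mem_cons, List.not_mem_nil, or_false] at hd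
  rcases hd with rfl | rfl
  · exact hD.sy 2 4 Nat.prime_two (by omega) h16
  · obtain ⟨w, hw⟩ := h4
    exact ⟨dt w, mem_LL.2 ⟨w, fun e => by simp [e] at hw, rfl⟩, hw, h8 w (Or.inr hw)⟩

theorem acc1 [IsSimpleGroup G] (hnc : ¬ IsMulCommutative G) {M : Md} {r : ℕ} (hk : Nat.card (ConjClasses G) = M.k + 1)
    (hr : M.k = r + 1) (hR : IsRee G ∨ IsJ1 G) (h8 : 8 ∣ Nat.card G → E8 G) (h0 : M.G0 = 175560)
    (hc : ∀ c, ¬ 16 ∣ c → M.mc c = true) (hg : ∀ c, c = 175560 ∨ 19683 ∣ c → M.mg c = true)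
    (h : node M r 1 1 4 0 [] [(2, 8), (3, 3), (7, 7)] [] = true) : Acc M (Nat.card G) (LL G) := by
  obtain ⟨h1, h2, h3, h4⟩ := ree_card hR
  obtain ⟨hD, hl⟩ := dat hnc hk (no3 hnc (by omega)) (h8 (by omega)) (h0 ▸ h2) (by omega)
    (fun x => hc _ fun h => by have := h.trans (card_subgroup_dvd_card _); omega) (hg _ h4)
  refine main hD (hl.trans hr) (fun d hd => ?_) h
  simp only [List.mem_cons, List.not_mem_nil, or_false] at hd
  rcases hd with rfl | rfl | rfl
  · exact hD.sy 2 3 Nat.prime_two (by omega) (by omega)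
  · exact hD.sy 3 1 Nat.prime_three h3 h3
  · exact hD.sy 7 1 (by norm_num) (by omega) (by omega)

theorem pnil_of_pow {X : Type*} [Group X] {n : ℕ} (h : Nat.card X = 2 ^ n) : HasNormalPComplement 2 X :=
  have := Fact.mk Nat.prime_two
  ⟨((IsPGroup.of_card h).to_subgroup ⊤).toSylow (by simp), ⊥, inferInstance, isComplement'_bot_top⟩

end Cfsg.Lib.KC
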