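import Cfsg.Agent.Lib.KC.A

/-! # A faster search through class equations (definitions) -/

namespace Cfsg.Lib.KC
open Cfsg.Lib.Comp

abbrev Kt := ℕ → List P → List P → List ℕ → List P → List ℕ → Bool

noncomputable def cq (l : List P) (o : ℕ) : ℕ :=
  List.rec (motive := fun _ => ℕ) 0 (fun y _ ih => cnd (Nat.beq y.1 o) (Nat.succ ih) ih) l

noncomputable def lc (dem : List P) (q : P → Bool) : ℕ :=
  List.rec (motive := fun _ => ℕ) 1 (fun d _ ih => cnd (q d) (force ih fun m => Nat.div (Nat.mul d.2 m) (Nat.gcd d.2 m)) ih) dem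

noncomputable def prd (l : List ℕ) (t : ℕ) : ℕ := List.rec (motive := fun _ => ℕ) t (fun x _ ih => Nat.mul x ih) l

noncomputable def ok1 (one : List P) (c o : ℕ) : Bool :=
  al one fun y => cnd (dvB (Nat.mul y.1 y.1) c) false (cnd (Nat.beq o y.1) (Nat.beq c y.2) true)

noncomputable def is1 (f : List ℕ) (c o : ℕ) : Bool := cnd (dvB (Nat.mul o o) c) false (an f (Nat.beq o))

noncomputable def ok2 (pre : List P) (o : ℕ) : Bool :=
  cnd (Nat.blt (Nat.mul 2 (Nat.succ (cq pre o))) (Nat.succ (Nat.pred o))) (al pre fun y => cnd (dvB (Nat.mul o o) y.2) false true) false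

noncomputable def ndem (pre dem : List P) (f : List ℕ) (c o : ℕ) : List P :=
  fi (fi (dv f o) (fun d => cnd (Nat.blt 1 d) (cnd (Nat.blt d o) (dvB d o) false) false) (fun d => (d, c))
    (fi f (fun _ => true) (fun p => (p, pp p c c)) dem)) (nsat ((o, c) :: pre)) (fun x => x) []

noncomputable def tr3 (r : ℕ) (pre dem : List P) (ps : List ℕ) (one : List P) (f : List ℕ) (c o : ℕ) (K : Kt) : Bool :=
  fP (ndem pre dem f c o) fun dem' => fL (ins (fi dem' (fun _ => true) Prod.fst []) []) fun ds =>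
    cnd (Nat.ble (len ds) r) (cnd (al ds fun d => al one fun y => cnd (Nat.beq y.1 d) false true)
      (fL (ins f ps) fun ps' => K o ((o, c) :: pre) dem' ps' one ds) true) true

noncomputable def tro (r cm om : ℕ) (pre dem : List P) (ps : List ℕ) (one : List P) (f : List ℕ) (c : ℕ) (K : Kt) (o : ℕ) : Bool :=
  cnd (okc cm om pre f c o) (cnd (ok1 one c o) (cnd (is1 f c o)
    (cnd (ok2 pre o) (tr3 r pre dem ps ((o, c) :: one) f c o K) true) (tr3 r pre dem ps one f c o K)) true) true

noncomputable def tra (r cm om : ℕ) (pre dem : List P) (ps : List ℕ) (one : List P) (c o : ℕ) (K : Kt) : Bool :=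
  fL (pf c 2 c) fun f => cnd (Nat.beq o 0) (al (dv f c) (tro r cm om pre dem ps one f c K)) (tro r cm om pre dem ps one f c K o)

noncomputable def stp (m lo hi : ℕ) (f : ℕ → Bool) : Bool :=
  force (Nat.div lo m) fun t0 => allR (fun t => force (Nat.mul m t) fun c => cnd (Nat.ble lo c) (f c) true)
    (Nat.sub (Nat.succ (Nat.div hi m)) t0) t0

noncomputable def loB (a b cm : ℕ) : ℕ := force (Nat.succ (Nat.div b a)) fun l1 => cnd (Nat.ble l1 cm) cm l1

noncomputable def lf (M : Md) (a b cm om : ℕ) (pre dem : List P) (ps : List ℕ) (one : List P) (o c : ℕ) : Bool :=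
  force (Nat.mul b c) fun x => force (Nat.sub (Nat.mul a c) b) fun d => cnd (dvB d x) (force (Nat.div x d) fun g =>
    cnd (dvB c g) (cnd (Nat.ble M.G0 g) (cnd (M.mg g) (cnd (M.mc c) (cnd (al pre fun y => dvB y.2 g) (cnd (bfB M.k g pre)
      (tra 0 cm om pre dem ps one c o fun _ l _ ps' _ _ => fin M.k M.A g l ps') true) true) true) true) true) true) true

noncomputable def lastc (M : Md) (a b lo : ℕ) (ps : List ℕ) (m : ℕ) (f : ℕ → Bool) : Bool :=
  force (hiB M.G0 1 a b) fun hi => cnd (Nat.ble (Nat.sub (Nat.div hi m) (Nat.div lo m)) 30) (stp m lo hi f)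
    (al (dv ps b) fun j => force (Nat.mul b (Nat.succ j)) fun x => force (Nat.mul a j) fun y => cnd (dvB y x)
      (force (Nat.div x y) fun c => cnd (Nat.ble lo c) (cnd (dvB m c) (f c) true) true) true)

abbrev Nt := ℕ → ℕ → ℕ → ℕ → List P → List P → List ℕ → List P → List ℕ → Bool

noncomputable def leaf2 (M : Md) (a b cm om : ℕ) (pre dem : List P) (ps : List ℕ) (one : List P) (ds : List ℕ) : Bool :=
  force (lc dem fun _ => true) fun m => force (prd ds 1) fun o => force (loB a b cm) fun lo =>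
    lastc M a b lo ps m (lf M a b cm om pre dem ps one (cnd (Nat.beq o 1) 0 o))

/-- numerical infeasibility of the last step -/
noncomputable def nfe (M : Md) (a b c : ℕ) (dem : List P) : Bool :=
  force (lc dem fun d => cnd (dvB d.2 c) false true) fun m => force (hiB M.G0 1 a b) fun hi => force (loB a b c) fun lo =>
    cnd (Nat.ble (Nat.sub (Nat.div hi m) (Nat.div lo m)) 30) (stp m lo hi fun y => force (Nat.mul b y) fun x =>
      force (Nat.sub (Nat.mul a y) b) fun d => cnd (dvB d x) (force (Nat.div x d) fun g =>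
        cnd (dvB y g) (cnd (dvB c g) false true) true) true) false

noncomputable def inner2 (M : Md) (r : ℕ) (N : Nt) (a b cm om : ℕ) (pre dem : List P) (ps : List ℕ) (one : List P) (o c : ℕ) : Bool :=
  cnd (M.mc c) (force (Nat.sub (Nat.mul a c) b) fun a2 => force (Nat.mul b c) fun b2 => force (Nat.gcd a2 b2) fun d =>
    force (Nat.div a2 d) fun a3 => force (Nat.div b2 d) fun b3 => cnd (cnd (Nat.beq r 0) (nfe M a3 b3 c dem) false) true
      (tra (Nat.succ r) cm om pre dem ps one c o fun o l dem' ps' one' ds => N a3 b3 c o l dem' ps' one' ds)) true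

noncomputable def smB (E c : ℕ) : Bool := cnd (Nat.blt c 4294967296) (dvB c E) true

noncomputable def body (M : Md) (r : ℕ) (a b cm : ℕ) (dem : List P) (ps ds : List ℕ) (F : ℕ → ℕ → Bool) : Bool :=
  force (loB a b cm) fun lo => force (hiB M.G0 (Nat.succ (Nat.succ r)) a b) fun hi => force (len ds) fun n =>
    cnd (Nat.ble n r) (stp 1 lo hi (F 0)) (force (prd ps (prd ds 1)) fun Q => force (Nat.pow Q 32) fun E =>
      cnd (Nat.beq n (Nat.succ r)) (stp 1 lo hi fun c => cnd (cnd (smB E c) true (Nat.beq (Nat.gcd c Q) 1)) (F 0 c) true)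
        (al ds fun o => force (lc dem fun d => Nat.beq d.1 o) fun m => stp m lo hi fun c => cnd (smB E c) (F o c) true))

noncomputable def node2 (M : Md) (r : ℕ) : Nt :=
  Nat.rec (motive := fun _ => Nt) (leaf2 M) (fun r N a b cm om pre dem ps one ds =>
    body M r a b cm dem ps ds (inner2 M r N a b cm om pre dem ps one)) r

def two (c : ℕ) : Bool := dvB c 4294967296

noncomputable def MT0 : Md := ⟨9, 1104, fun _ => true, fun _ => true, fun g l =>
  cnd (an [1920, 30720, 4320, 5600, 5760, 7920] (Nat.beq g)) true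
    (cnd (al l fun y => cnd (Nat.beq y.1 2) (two y.2) true) (cnd (Nat.blt g 100000)
      (cnd (Nat.beq g 29120) (an l fun y => cnd (Nat.beq y.1 4) (Nat.beq y.2 8) false) true) false)
    (cnd (Nat.beq g 2160) (cnd (an l fun y => cnd (Nat.beq y.1 2) (Nat.beq y.2 16) false)
        (cnd (an l fun y => cnd (Nat.beq y.1 2) (Nat.beq y.2 24) false) (Nat.beq (len (fi l (fun y => dvB 2 y.1) Prod.fst [])) 5) false) false)
    (cnd (Nat.beq g 12960) (cnd (Nat.beq (cnt g l (Nat.beq 6)) 6480) (cnd (Nat.beq (cnt g l (Nat.beq 3)) 80)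
        (al l fun y => cnd (Nat.beq y.1 3) (Nat.beq y.2 162) true) false) false)
    (cnd (Nat.beq g 25920) (cnd (an l fun y => cnd (Nat.beq y.1 6) (Nat.beq y.2 6) false)
        (al l fun y => cnd (Nat.beq y.1 3) (dvB 4 y.2) true) false)
    (cnd (Nat.beq g 92160) (cnd (Nat.beq (cnt g l (Nat.beq 6)) 15360) (cnd (al l fun y => cnd (Nat.beq y.1 6) (Nat.beq y.2 6) true)
        (cnd (an l fun y => cnd (Nat.beq y.1 2) (Nat.beq y.2 384) false) (an l fun y => cnd (Nat.beq y.1 2) (Nat.beq y.2 6144) false)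
          false) false) false) false)))))⟩

noncomputable def MT2 : Md := ⟨9, 175560, fun c => cnd (dvB 16 c) false (cnd (dvB 5 c) false true), dvB 19683, fun _ _ => false⟩

noncomputable def MT3 : Md := ⟨9, 175560, fun c => dvB c 175560, Nat.beq 175560, fun _ _ => false⟩

end Cfsg.Lib.KC
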