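import Cfsg.Agent.Lib.KC.C
import Cfsg.Agent.Lib.KC.G

/-! # A faster search through class equations (soundness) -/

namespace Cfsg.Lib.KC
open Cfsg.Lib.Comp

variable {M : Md} {g : ℕ}

theorem cq_eq (l : List P) (o : ℕ) : cq l o = (l.map Prod.fst).count o := by
  induction l with
  | nil => rfl
  | cons y u ih =>
    change cnd (Nat.beq y.1 o) (cq u o + 1) (cq u o) = _
    rw [cnd_eq, ih, List.map_cons, List.count_cons]
    simp only [Nat.beq_eq, beq_iff_eq]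
    split_ifs <;> rfl

theorem lc_dvd {dem : List P} {q : P → Bool} {c : ℕ} (h : ∀ d ∈ dem, q d = true → d.2 ∣ c) : lc dem q ∣ c := by
  induction dem with
  | nil => exact one_dvd _
  | cons d u ih =>
    have h1 := ih fun e he => h e (List.mem_cons_of_mem _ he)
    change cnd (q d) (Nat.lcm d.2 (lc u q)) (lc u q) ∣ c
    rw [cnd_eq]; split_ifs with h2
    · exact Nat.lcm_dvd (h d List.mem_cons_self h2) h1
    · exact h1

theorem dvd_prd (l : List ℕ) (t : ℕ) : t ∣ prd l t ∧ ∀ a ∈ l, a ∣ prd l t := by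
  induction l with
  | nil => exact ⟨dvd_rfl, fun _ h => nomatch h⟩
  | cons x u ih => exact ⟨ih.1.mul_left x, fun a ha => (List.mem_cons.1 ha).elim (fun e => e ▸ dvd_mul_right _ _)
      fun h => (ih.2 a h).mul_left x⟩

theorem stp_spec {m lo hi c : ℕ} {f : ℕ → Bool} (h : stp m lo hi f = true) (h0 : 0 < c) (h1 : m ∣ c) (h2 : lo ≤ c) (h3 : c ≤ hi) :
    f c = true := by
  obtain ⟨t, rfl⟩ := h1
  have m0 : 0 < m := Nat.pos_of_mul_pos_right h0
  have a1 : lo / m ≤ t := Nat.div_le_of_le_mul h2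
  have a2 : t ≤ hi / m := (Nat.le_div_iff_mul_le m0).2 (mul_comm m t ▸ h3)
  change allR _ (hi / m + 1 - lo / m) (lo / m) = true at h
  exact cnd_imp.1 (allR_spec _ _ t h a1 (by omega)) (Nat.ble_eq ▸ h2)

theorem loB_le {a b cm c : ℕ} (h1 : b / a < c) (h2 : cm ≤ c) : loB a b cm ≤ c := by
  change cnd (Nat.ble (b / a + 1) cm) cm (b / a + 1) ≤ c
  rw [cnd_eq]; split_ifs <;> omega

theorem smB_of {Q c : ℕ} (h0 : 0 < c) (h : ∀ p, p.Prime → p ∣ c → p ∣ Q) : smB (Nat.pow Q 32) c = true := by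
  refine cnd_imp.2 fun h1 => dvB_iff.2 ((Nat.dvd_iff_prime_pow_dvd_dvd _ _).2 fun p k hp h2 => ?_)
  rw [Nat.blt_eq] at h1
  rcases k.eq_zero_or_pos with rfl | hk
  · exact one_dvd _
  have h3 : k ≤ 32 := ((Nat.pow_lt_pow_iff_right one_lt_two).1 (((Nat.pow_le_pow_left hp.two_le k).trans
    (Nat.le_of_dvd h0 h2)).trans_lt h1)).le
  exact (pow_dvd_pow p h3).trans (pow_dvd_pow_of_dvd (h p hp ((dvd_pow_self p hk.ne').trans h2)) 32)

theorem len_le {u : List ℕ} {suf : List P} (h1 : u.Nodup) (h2 : ∀ a ∈ u, ∃ y ∈ suf, y.1 = a) : u.length ≤ suf.length :=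
  (h1.length_le_of_subset (l₂ := suf.map Prod.fst) fun a ha => List.mem_map.2 (h2 a ha)).trans (List.length_map _).le

def R3 (L : List P) : Prop := ∀ x ∈ L, x.1.Prime → ¬ x.1 * x.1 ∣ x.2 →
  (∀ y ∈ L, ¬ x.1 * x.1 ∣ y.2) ∧ (∀ y ∈ L, y.1 = x.1 → y.2 = x.2) ∧ 2 * cq L x.1 < x.1

theorem R3.perm {L L' : List P} (h : R3 L) (e : L.Perm L') : R3 L' := by
  unfold R3 at *
  simpa only [e.mem_iff, cq_eq, (e.map _).count_eq] using h

def On (one pre : List P) : Prop := ∀ y ∈ one, y ∈ pre ∧ y.1.Prime ∧ ¬ y.1 * y.1 ∣ y.2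

def Ds (ds : List ℕ) (dem : List P) : Prop := ds.Nodup ∧ ∀ a, a ∈ ds ↔ ∃ d ∈ dem, d.1 = a

section
variable {r cm om : ℕ} {pre dem suf one : List P} {ps f : List ℕ} {x : P} {K : Kt}

theorem up_pre (hD : Dat M g (pre ++ x :: suf)) (hs : ∀ y ∈ suf, LE x y) {p : ℕ} (hp : p.Prime) (h1 : p ∣ x.2) (h2 : ¬ p ∣ x.1) :
    ∃ y ∈ pre, y.1 = x.1 * p ∧ y.2 ∣ x.2 := by
  have hxL : x ∈ pre ++ x :: suf := by simp
  obtain ⟨x1, x2, x3, x4, -⟩ := hD.dv x hxL
  obtain ⟨y, h3, h4, h5⟩ := hD.up x hxL p hp h1 h2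
  refine ⟨y, ?_, h4, h5⟩
  have h6 : x.1 < y.1 := by rw [h4]; have := hp.two_le; nlinarith
  have h7 := Nat.le_of_dvd (by omega) h5
  rcases List.mem_append.1 h3 with h3 | h3
  · exact h3
  rcases List.mem_cons.1 h3 with rfl | h3
  · omega
  · rcases hs y h3 with h8 | h8 <;> omega

theorem tr3_spec (hD : Dat M g (pre ++ x :: suf)) (h3 : R3 (pre ++ x :: suf)) (hd : Dm dem (x :: suf))
    (hf : ∀ p, p ∈ f ↔ p.Prime ∧ p ∣ x.2) (ho : On one (x :: pre)) (hr : suf.length ≤ r)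
    (h : tr3 r pre dem ps one f x.2 x.1 K = true) : ∃ dem' ps' ds, Dm dem' suf ∧ (∀ p, p ∈ ps' ↔ (p.Prime ∧ p ∣ x.2) ∨ p ∈ ps) ∧
      Ds ds dem' ∧ K x.1 (x :: pre) dem' ps' one ds = true := by
  have hxL : x ∈ pre ++ x :: suf := by simp
  obtain ⟨x1, x2, x3, x4, -⟩ := hD.dv x hxL
  have hdm : ∀ d ∈ ndem pre dem f x.2 x.1, (∃ y ∈ suf, y.1 = d.1 ∧ d.2 ∣ y.2) ∧ ∀ y ∈ x :: pre, y.1 = d.1 → ¬ d.2 ∣ y.2 := by
    intro d hd'
    simp only [ndem, mem_fi, List.not_mem_nil, or_false, exists_eq_right_right, nsat, al_iff, cnd_imp, cnd_tt, Nat.beq_eq,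
      dvB_iff, Nat.blt_eq, true_and] at hd'
    obtain ⟨h1, h2⟩ := hd'
    have h2 : ∀ y ∈ x :: pre, y.1 = d.1 → ¬ d.2 ∣ y.2 := fun y a b c => Bool.false_ne_true (h2 y a b c)
    have : ∃ y ∈ pre ++ x :: suf, y.1 = d.1 ∧ d.2 ∣ y.2 := by
      rcases h1 with ⟨e, -, ⟨h3, -, h4⟩, rfl⟩ | ⟨p, h3, rfl⟩ | h1
      · exact hD.dn x hxL e h4 h3
      · obtain ⟨i, h4, h5⟩ := pp_spec p x.2 x.2
        have := (hf p).1 h3
        rw [h4]
        exact hD.sy p i this.1 (this.2.trans x3) (h5.trans x3)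
      · obtain ⟨y, h3, h4⟩ := hd d h1
        exact ⟨y, List.mem_append_right _ h3, h4⟩
    obtain ⟨y, h3, h4, h5⟩ := this
    refine ⟨⟨y, ?_, h4, h5⟩, h2⟩
    by_contra h6
    exact h2 y (by simpa [h6, or_comm] using h3) h4 h5
  unfold tr3 at h
  rw [fP_eq, fL_eq, cnd_imp, cnd_imp, fL_eq] at h
  generalize ndem pre dem f x.2 x.1 = dem' at h hdm
  have hds : Ds (ins (fi dem' (fun _ => true) Prod.fst []) []) dem' := ⟨(ins_spec _ _).2 List.nodup_nil, fun a => by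
    simp only [(ins_spec _ _).1, mem_fi, List.not_mem_nil, or_false, true_and]⟩
  generalize ins (fi dem' (fun _ => true) Prod.fst []) [] = ds at h hds
  refine ⟨_, _, ds, fun d hd => (hdm d hd).1, fun p => by rw [(ins_spec _ _).1, hf], hds, h ?_ ?_⟩
  · rw [Nat.ble_eq, len_eq]
    refine (len_le hds.1 fun a ha => ?_).trans hr
    obtain ⟨d, h1, rfl⟩ := (hds.2 a).1 ha
    exact (hdm d h1).1.imp fun y h => ⟨h.1, h.2.1⟩
  · simp only [al_iff, cnd_not, Nat.beq_eq]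
    intro a ha y hy e
    obtain ⟨d, h1, rfl⟩ := (hds.2 a).1 ha
    obtain ⟨⟨z, h2, h4, h5⟩, h6⟩ := hdm d h1
    obtain ⟨a1, a2, a3⟩ := ho y hy
    have a4 : y ∈ pre ++ x :: suf := by
      rcases List.mem_cons.1 a1 with rfl | a1 <;> simp [*]
    exact h6 y a1 e ((h3 y a4 a2 a3).2.1 z (by simp [h2]) (h4.trans e.symm) ▸ h5)

theorem tra_spec {o : ℕ} (hD : Dat M g (pre ++ x :: suf)) (h3 : R3 (pre ++ x :: suf)) (hs : ∀ y ∈ suf, LE x y) (hx : LE (om, cm) x)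
    (hd : Dm dem (x :: suf)) (ho : On one pre) (hr : suf.length ≤ r) (e : o = 0 ∨ o = x.1)
    (h : tra r cm om pre dem ps one x.2 o K = true) : ∃ dem' ps' one' ds, Dm dem' suf ∧
      (∀ p, p ∈ ps' ↔ (p.Prime ∧ p ∣ x.2) ∨ p ∈ ps) ∧ On one' (x :: pre) ∧ Ds ds dem' ∧ K x.1 (x :: pre) dem' ps' one' ds = true := by
  have hxL : x ∈ pre ++ x :: suf := by simp
  obtain ⟨x1, x2, x3, x4, -⟩ := hD.dv x hxL
  have x0 : 0 < x.2 := by omega
  have hf : ∀ p, p ∈ pf x.2 2 x.2 ↔ _ := fun p => mem_pf' x0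
  unfold tra at h
  rw [fL_eq] at h
  generalize pf x.2 2 x.2 = f at h hf
  have h : tro r cm om pre dem ps one f x.2 K x.1 = true := by
    rw [cnd_eq] at h
    split_ifs at h with h1
    · exact al_iff.1 h _ (mem_dv x0 (fun p hp => ((hf p).1 hp).1) _ x2 fun q hq e => (hf q).2 ⟨hq, e.trans x2⟩)
    · rw [Nat.beq_eq] at h1
      exact e.resolve_left h1 ▸ h
  have ho' : On one (x :: pre) := fun y hy => ⟨List.mem_cons_of_mem _ (ho y hy).1, (ho y hy).2⟩
  unfold tro at h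
  rw [cnd_imp, cnd_imp, cnd_eq] at h
  have h := h (by
    simp only [okc, cnd_tt, cnd_or, cnd_imp, al_iff, force_eq, an_iff, Nat.blt_eq, Nat.ble_eq, Nat.beq_eq, dvB_iff]
    exact ⟨x1, hx.imp id And.right, hD.e8 x hxL, fun p hp => or_iff_not_imp_left.2
      (up_pre hD hs ((hf p).1 hp).1 ((hf p).1 hp).2)⟩) (al_iff.2 fun y hy => by
    obtain ⟨a1, a2, a3⟩ := ho y hy
    obtain ⟨a4, a5, -⟩ := h3 y (List.mem_append_left _ a1) a2 a3
    rw [cnd_eq]
    split_ifs with a6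
    · exact absurd (dvB_iff.1 a6) (a4 x hxL)
    rw [cnd_imp, Nat.beq_eq, Nat.beq_eq]
    exact a5 x hxL)
  split_ifs at h with h1
  · unfold is1 at h1
    rw [cnd_eq] at h1
    split_ifs at h1 with h2
    simp only [an_iff, Nat.beq_eq, exists_eq_right', hf] at h1
    have h2 : ¬ x.1 * x.1 ∣ x.2 := fun h => h2 (dvB_iff.2 h)
    obtain ⟨a4, -, a5⟩ := h3 x hxL h1.1 h2
    have ho2 : On (x :: one) (x :: pre) := fun y hy => (List.mem_cons.1 hy).elim
      (fun e => by rw [e]; exact ⟨List.mem_cons_self, h1.1, h2⟩) (ho' y)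
    obtain ⟨dem', ps', ds, b1, b2, b3, b4⟩ := tr3_spec hD h3 hd hf ho2 hr (cnd_imp.1 h (by
      simp only [ok2, cnd_tt, al_iff, cnd_not, Nat.blt_eq]
      refine ⟨?_, fun y hy h => a4 y (List.mem_append_left _ hy) (dvB_iff.1 h)⟩
      rw [cq_eq, List.map_append, List.count_append, List.map_cons, List.count_cons_self, ← cq_eq] at a5
      change 2 * (cq pre x.1 + 1) < x.1 - 1 + 1
      omega))
    exact ⟨dem', ps', _, ds, b1, b2, ho2, b3, b4⟩
  · obtain ⟨dem', ps', ds, b1, b2, b3, b4⟩ := tr3_spec hD h3 hd hf ho' hr h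
    exact ⟨dem', ps', _, ds, b1, b2, ho', b3, b4⟩

end

structure Inv2 (M : Md) (g a b cm om : ℕ) (pre dem : List P) (ps : List ℕ) (one : List P) (ds : List ℕ) (suf : List P) : Prop
    extends Inv M g a b cm om pre dem ps suf where
  r3 : R3 (pre ++ suf)
  on : On one pre
  nd : Ds ds dem
  pq : ∀ y ∈ pre, ∀ q, q.Prime → q ∣ y.2 → q ∈ ps

theorem last_num {G0 a b c j : ℕ} (e : a * (c * j) = b * (j + 1)) (b0 : 0 < b) (j5 : 5 ≤ j) (hG : G0 ≤ c * j) :
    a * c - b ∣ b * c ∧ b * c / (a * c - b) = c * j ∧ b / a < c ∧ c ≤ hiB G0 1 a b := by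
  have h3 : b < c * a := Nat.lt_of_mul_lt_mul_right (a := j) (by nlinarith)
  have h4 : b * c = (a * c - b) * (c * j) := by
    rw [Nat.sub_mul]; refine (Nat.sub_eq_of_eq_add ?_).symm
    rw [mul_right_comm, e]; ring
  refine ⟨⟨_, h4⟩, ?_, (Nat.div_lt_iff_lt_mul (Nat.pos_of_mul_pos_left (b0.trans h3))).2 h3,
    le_hiB b0 j5 hG (by rw [e]; nlinarith) (by rw [e, one_mul])⟩
  rw [h4, Nat.mul_div_cancel_left _ (by rw [mul_comm] at h3; omega)]

variable {a b cm om : ℕ} {pre dem one : List P} {ps ds : List ℕ} {x : P}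

theorem single_num {a b : ℕ} {L : List P} (hD : Dat M g L) (hx : x ∈ L) (e : a * g = b * (cnt g [x] (fun _ => true) + 1)) :
    ∃ j, g = x.2 * j ∧ 5 ≤ j ∧ a * (x.2 * j) = b * (j + 1) := by
  obtain ⟨-, -, ⟨j, x3⟩, x4, x5⟩ := hD.dv x hx
  rw [cnt_cons, if_pos rfl, show cnt g [] (fun _ => true) = 0 from rfl, add_zero, x3, Nat.mul_div_cancel_left _ (by omega)] at e
  exact ⟨j, x3, Nat.le_of_mul_le_mul_right (c := x.2) (by rw [mul_comm j, ← x3]; exact x5) (by omega), e⟩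

theorem leaf2_spec (I : Inv2 M g a b cm om pre dem ps one ds [x]) (h : leaf2 M a b cm om pre dem ps one ds = true) :
    Acc M g (pre ++ [x]) := by
  have hxL : x ∈ pre ++ [x] := by simp
  obtain ⟨j, x3, j5, e⟩ := single_num I.D hxL I.eq
  obtain ⟨x1, -, x2, x4, -⟩ := I.D.dv x hxL
  obtain ⟨n1, n2, n3, n4⟩ := last_num e I.b0 j5 (x3 ▸ I.D.g0)
  have hx := I.lo x (List.mem_singleton.2 rfl)
  have hlo := loB_le n3 (hx.elim le_of_lt fun h => h.1.le)
  have hm : lc dem (fun _ => true) ∣ x.2 := lc_dvd fun d hd _ => by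
    obtain ⟨y, h1, -, h2⟩ := I.dm d hd
    exact List.mem_singleton.1 h1 ▸ h2
  have ho : cnd (Nat.beq (prd ds 1) 1) 0 (prd ds 1) = 0 ∨ cnd (Nat.beq (prd ds 1) 1) 0 (prd ds 1) = x.1 := by
    have h1 : ∀ a ∈ ds, a = x.1 := fun a ha => by
      obtain ⟨d, h1, rfl⟩ := (I.nd.2 a).1 ha
      obtain ⟨y, h2, h3, -⟩ := I.dm d h1
      exact List.mem_singleton.1 h2 ▸ h3.symm
    have h2 := len_le (suf := [x]) I.nd.1 fun a ha => ⟨x, List.mem_singleton.2 rfl, (h1 a ha).symm⟩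
    obtain _ | ⟨u, _ | ⟨v, t⟩⟩ := ds
    · exact Or.inl rfl
    · rw [cnd_eq]; split_ifs
      · exact Or.inl rfl
      · exact Or.inr ((mul_one u).trans (h1 u List.mem_cons_self))
    · simp at h2
  unfold leaf2 at h
  simp only [force_eq] at h
  generalize cnd (Nat.beq (prd ds 1) 1) 0 (prd ds 1) = o at h ho
  have h : lf M a b cm om pre dem ps one o x.2 = true := by
    unfold lastc at h
    rw [force_eq, cnd_eq] at h
    split_ifs at h
    · exact stp_spec h (by omega) hm hlo n4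
    have hj : j ∣ b := (Nat.dvd_add_right (dvd_mul_left j b)).1 ⟨a * x.2, by rw [← mul_add_one, ← e]; ring⟩
    have a0 : 0 < a * j := by
      have := I.b0
      rcases Nat.eq_zero_or_pos a with rfl | h
      · rw [zero_mul] at e; exact absurd e.symm (by positivity)
      · exact Nat.mul_pos h (by omega)
    have e1 : Nat.mul b (Nat.succ j) = Nat.mul a j * x.2 := by
      change b * (j + 1) = a * j * x.2; rw [← e]; ring
    have e2 : Nat.div (Nat.mul a j * x.2) (Nat.mul a j) = x.2 := Nat.mul_div_cancel_left _ a0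
    simp only [al_iff, force_eq, cnd_imp, dvB_iff, Nat.ble_eq] at h
    have h := h j (mem_dv I.b0 I.pr j hj fun q hq h => I.pb q hq (h.trans hj))
    rw [e1, e2] at h
    exact h (dvd_mul_right _ _) hlo hm
  have e3 : Nat.div (Nat.mul b x.2) (Nat.sub (Nat.mul a x.2) b) = g := n2.trans x3.symm
  simp only [lf, force_eq, cnd_imp, dvB_iff, Nat.ble_eq, bfB_iff, al_iff, e3] at h
  obtain ⟨dem', ps', one', ds', -, h1, -, -, h2⟩ := tra_spec I.D I.r3 (fun _ h => nomatch h) hx I.dm I.on le_rfl ho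
    (h n1 x2 I.D.g0 I.D.mg (I.D.mc x hxL) (fun y hy => (I.D.dv y (List.mem_append_left _ hy)).2.2.1)
      fun y hy => I.D.bf y (List.mem_append_left _ hy))
  have hp : (x :: pre).Perm (pre ++ [x]) := (List.perm_append_singleton _ _).symm
  exact ⟨_, hp, fin_spec (I.D.perm hp.symm) (fun p hp => ((h1 p).1 hp).elim And.left (I.pr p)) h2⟩

theorem inner2_spec {r o : ℕ} {N : Nt} {suf : List P} (I : Inv2 M g a b cm om pre dem ps one ds (x :: suf))
    (hr : suf.length = r + 1) (ho : o = 0 ∨ o = x.1) (h : inner2 M r N a b cm om pre dem ps one o x.2 = true) :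
    ∃ a' b' dem' ps' one' ds', Inv2 M g a' b' x.2 x.1 (x :: pre) dem' ps' one' ds' suf ∧
      N a' b' x.2 x.1 (x :: pre) dem' ps' one' ds' = true := by
  have hxL : x ∈ pre ++ x :: suf := by simp
  obtain ⟨x1, x2, ⟨j, x3⟩, x4, x5⟩ := I.D.dv x hxL
  have hs := List.pairwise_cons.1 I.srt
  have b0 := I.b0
  have e := I.eq
  rw [cnt_cons, if_pos rfl, show g / x.2 = j by rw [x3, Nat.mul_div_cancel_left _ (by omega)]] at e
  have d0 : 0 < Nat.gcd (a * x.2 - b) (b * x.2) := Nat.gcd_pos_of_pos_right _ (by positivity)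
  obtain ⟨a', ha⟩ := Nat.gcd_dvd_left (a * x.2 - b) (b * x.2)
  obtain ⟨b', hb⟩ := Nat.gcd_dvd_right (a * x.2 - b) (b * x.2)
  have ea : Nat.div (Nat.sub (Nat.mul a x.2) b) (Nat.gcd (Nat.sub (Nat.mul a x.2) b) (Nat.mul b x.2)) = a' :=
    Nat.div_eq_of_eq_mul_right d0 ha
  have eb : Nat.div (Nat.mul b x.2) (Nat.gcd (Nat.sub (Nat.mul a x.2) b) (Nat.mul b x.2)) = b' :=
    Nat.div_eq_of_eq_mul_right d0 hb
  generalize Nat.gcd (a * x.2 - b) (b * x.2) = d at d0 ha hb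
  have b1 : 0 < b' := Nat.pos_of_mul_pos_left (a := d) (by rw [← hb]; positivity)
  have e' : a' * g = b' * (cnt g suf (fun _ => true) + 1) := Nat.eq_of_mul_eq_mul_left d0 (by
    rw [← mul_assoc, ← mul_assoc, ← ha, ← hb, Nat.sub_mul]
    refine Nat.sub_eq_of_eq_add ?_
    rw [mul_right_comm, e]
    generalize cnt g suf (fun _ => true) = S
    rw [x3]; ring)
  simp only [inner2, force_eq, ea, eb] at h
  rw [cnd_imp, cnd_or, cnd_tt] at h
  rcases h (I.D.mc x hxL) with ⟨h1, h2⟩ | h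
  · exfalso
    obtain rfl : r = 0 := Nat.beq_eq ▸ h1
    obtain ⟨y, rfl⟩ := List.length_eq_one_iff.1 hr
    have hyL : y ∈ pre ++ [x, y] := by simp
    obtain ⟨i, y3, i5, ei⟩ := single_num I.D hyL e'
    obtain ⟨n1, n2, n3, n4⟩ := last_num ei b1 i5 (y3 ▸ I.D.g0)
    have y4 := (I.D.dv y hyL).2.2.2.1
    unfold nfe at h2
    simp only [force_eq] at h2
    have h2 := stp_spec (cnd_tt.1 h2).2 (c := y.2) (by omega) (lc_dvd fun d hd h => by
      obtain ⟨z, h3, -, h4⟩ := I.dm d hd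
      rcases List.mem_cons.1 h3 with rfl | h3
      · exact absurd (dvB_iff.2 h4) (cnd_not.1 h)
      · exact List.mem_singleton.1 h3 ▸ h4)
      (loB_le n3 ((hs.1 y List.mem_cons_self).elim le_of_lt fun h => h.1.le)) n4
    have e3 : Nat.div (Nat.mul b' y.2) (Nat.sub (Nat.mul a' y.2) b') = g := n2.trans y3.symm
    simp only [cnd_imp, dvB_iff, e3] at h2
    exact Bool.false_ne_true (h2 n1 ⟨i, y3⟩ ⟨j, x3⟩)
  obtain ⟨dem', ps', one', ds', h1, h2, h3, h4, h5⟩ := tra_spec I.D I.r3 hs.1 (I.lo x List.mem_cons_self) I.dm I.on hr.le ho h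
  refine ⟨a', b', dem', ps', one', ds', ⟨⟨I.D.perm List.perm_middle, hs.2, hs.1, h1,
    fun p hp => ((h2 p).1 hp).elim And.left (I.pr p), b1, fun q hq h4 => (h2 q).2 ?_, e'⟩, I.r3.perm List.perm_middle, h3, h4,
    fun y hy q hq h6 => (h2 q).2 ((List.mem_cons.1 hy).imp (fun e : y = x => ⟨hq, e ▸ h6⟩) fun hy => I.pq y hy q hq h6)⟩, h5⟩
  exact (hq.dvd_mul.1 (hb ▸ h4.mul_left d)).symm.imp (fun h => ⟨hq, h⟩) (I.pb q hq)

theorem body_spec {r : ℕ} {F : ℕ → ℕ → Bool} {suf : List P} (I : Inv2 M g a b cm om pre dem ps one ds (x :: suf))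
    (hr : suf.length = r + 1) (h : body M r a b cm dem ps ds F = true) : ∃ o, (o = 0 ∨ o = x.1) ∧ F o x.2 = true := by
  have hxL : x ∈ pre ++ x :: suf := by simp
  obtain ⟨x1, x2, ⟨j, x3⟩, x4, x5⟩ := I.D.dv x hxL
  have hs := List.pairwise_cons.1 I.srt
  have b0 := I.b0
  have x0 : 0 < x.2 := by omega
  have ej : g / x.2 = j := by rw [x3, Nat.mul_div_cancel_left _ (by omega)]
  have e := I.eq
  have e1 := cnt_le (g := g) (c := x.2) (l := x :: suf) (by omega) fun y hy => (List.mem_cons.1 hy).elim (fun h => h ▸ le_rfl)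
    fun h => (hs.1 y h).elim le_of_lt fun h => h.1.le
  rw [List.length_cons, hr, ej] at e1
  have e2 : j ≤ cnt g (x :: suf) fun _ => true := by rw [cnt_cons, if_pos rfl, ej]; omega
  generalize cnt g (x :: suf) (fun _ => true) = S at e e1 e2
  have j5 : 5 ≤ j := Nat.le_of_mul_le_mul_right (c := x.2) (by rw [mul_comm j, ← x3]; exact x5) (by omega)
  have h1 : x.2 ≤ hiB M.G0 (r + 1 + 1) a b := le_hiB b0 j5 (x3 ▸ I.D.g0) (by rw [← x3, e]; nlinarith)
    (by rw [← x3, e]; exact Nat.mul_le_mul_left _ (by omega))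
  have h2 : b / a < x.2 := by
    have h3 : b < x.2 * a := Nat.lt_of_mul_lt_mul_right (a := j) (by
      rw [x3] at e; nlinarith)
    exact (Nat.div_lt_iff_lt_mul (Nat.pos_of_mul_pos_left (b0.trans h3))).2 h3
  have h3 := loB_le h2 ((I.lo x List.mem_cons_self).elim le_of_lt fun h => h.1.le)
  have hw : (∀ d ∈ dem, d.1 = x.1 → ∃ e ∈ dem, e.1 = x.1 ∧ ¬ e.2 ∣ x.2) → ∀ u ∈ ds, ∃ y ∈ suf, y.1 = u := fun h u hu => by
    obtain ⟨d, a1, rfl⟩ := (I.nd.2 u).1 hu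
    by_cases a2 : d.1 = x.1
    · obtain ⟨e, a3, a4, a5⟩ := h d a1 a2
      obtain ⟨y, a6, a7, a8⟩ := I.dm e a3
      exact ⟨y, (List.mem_cons.1 a6).resolve_left fun h => a5 (h ▸ a8), a7.trans (a4.trans a2.symm)⟩
    · obtain ⟨y, a6, a7, -⟩ := I.dm d a1
      exact ⟨y, (List.mem_cons.1 a6).resolve_left fun h => a2 (h ▸ a7.symm), a7⟩
  have hQ1 := (dvd_prd ps (prd ds 1)).2
  have hQ2 := fun u hu => ((dvd_prd ds 1).2 u hu).trans (dvd_prd ps (prd ds 1)).1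
  have hp : ∀ y ∈ pre, ∀ p, p.Prime → p ∣ y.1 → p ∣ prd ps (prd ds 1) := fun y hy p hp h =>
    hQ1 p (I.pq y hy p hp (h.trans (I.D.dv y (List.mem_append_left _ hy)).2.1))
  have hn : ∀ p, p.Prime → p ∣ x.2 → ¬ p ∣ prd ps (prd ds 1) → p ∣ x.1 ∧ ∀ u ∈ ds, ∃ y ∈ suf, y.1 = u := fun p a1 a2 a3 => by
    have a4 : p ∣ x.1 := by
      by_contra a4
      obtain ⟨y, a5, a6, -⟩ := up_pre I.D hs.1 a1 a2 a4
      exact a3 (hp y a5 p a1 (a6 ▸ dvd_mul_left _ _))
    exact ⟨a4, hw fun d a5 a6 => absurd (a4.trans (a6 ▸ hQ2 _ ((I.nd.2 _).2 ⟨d, a5, rfl⟩))) a3⟩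
  unfold body at h
  simp only [force_eq, len_eq] at h
  generalize prd ps (prd ds 1) = Q at *
  rw [cnd_eq, cnd_eq] at h
  split_ifs at h with c1 c2 <;> simp only [Nat.ble_eq] at c1 <;> try simp only [Nat.beq_eq] at c2
  · exact ⟨0, Or.inl rfl, stp_spec h x0 (one_dvd _) h3 h1⟩
  · refine ⟨0, Or.inl rfl, cnd_imp.1 (stp_spec h x0 (one_dvd _) h3 h1) (cnd_or.2 ?_)⟩
    by_cases c3 : ∀ p, p.Prime → p ∣ x.2 → p ∣ Q
    · exact Or.inl (smB_of x0 c3)
    push Not at c3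
    obtain ⟨p, a1, a2, a3⟩ := c3
    obtain ⟨a4, a5⟩ := hn p a1 a2 a3
    have a6 : x.1 = p := by
      by_contra a6
      obtain ⟨y, a7, a8, -⟩ := I.D.dn x hxL p a4 a1.one_lt
      have := len_le (u := p :: ds) (suf := suf) (List.nodup_cons.2 ⟨fun h => a3 (hQ2 p h), I.nd.1⟩) fun u hu =>
        (List.mem_cons.1 hu).elim (fun e => ⟨y, (List.mem_cons.1 ((List.mem_append.1 a7).resolve_left fun h =>
          a3 (hp y h p a1 (a8 ▸ dvd_rfl)))).resolve_left fun h => a6 (h ▸ a8), a8.trans e.symm⟩) (a5 u)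
      rw [List.length_cons, c2, hr] at this
      omega
    refine Or.inr (Nat.beq_eq ▸ Nat.eq_one_iff_not_exists_prime_dvd.2 fun q hq a7 => ?_)
    obtain ⟨y, a8, a9, -⟩ := up_pre I.D hs.1 hq (a7.trans (Nat.gcd_dvd_left _ _)) fun h => a3
      ((Nat.prime_dvd_prime_iff_eq hq a1).1 (a6 ▸ h) ▸ a7.trans (Nat.gcd_dvd_right _ _))
    exact a3 (hp y a8 p a1 (a9 ▸ a4.mul_right _))
  · have c3 : ¬ ∀ u ∈ ds, ∃ y ∈ suf, y.1 = u := fun h => by have := len_le I.nd.1 h; omega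
    have a1 : ∃ d ∈ dem, d.1 = x.1 ∧ ∀ e ∈ dem, e.1 = x.1 → e.2 ∣ x.2 := by
      by_contra! a1
      exact c3 (hw a1)
    obtain ⟨d, a1, a2, a3⟩ := a1
    exact ⟨x.1, Or.inr rfl, cnd_imp.1 (stp_spec (al_iff.1 h x.1 ((I.nd.2 _).2 ⟨d, a1, a2⟩)) x0
      (lc_dvd fun e he h => a3 e he (Nat.beq_eq ▸ h)) h3 h1) (smB_of x0 fun p b1 b2 => by_contra fun b3 => c3 (hn p b1 b2 b3).2)⟩

theorem node2_spec (r : ℕ) : ∀ {a b cm om : ℕ} {pre dem one : List P} {ps ds : List ℕ} {suf : List P},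
    Inv2 M g a b cm om pre dem ps one ds suf → suf.length = r + 1 → node2 M r a b cm om pre dem ps one ds = true →
    Acc M g (pre ++ suf) := by
  induction r with
  | zero =>
    intro a b cm om pre dem one ps ds suf I hr h
    obtain ⟨x, rfl⟩ := List.length_eq_one_iff.1 hr
    exact leaf2_spec I h
  | succ r ih =>
    intro a b cm om pre dem one ps ds suf I hr h
    obtain _ | ⟨x, suf⟩ := suf
    · exact absurd hr (by simp)
    have hr' : suf.length = r + 1 := by simpa using hr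
    obtain ⟨o, h1, h2⟩ := body_spec I hr' h
    obtain ⟨a', b', dem', ps', one', ds', I', h5⟩ := inner2_spec I hr' h1 h2
    obtain ⟨l, h6, h7⟩ := ih I' hr' h5
    exact ⟨l, h6.trans List.perm_middle.symm, h7⟩

theorem main2 {L dem : List P} {ds : List ℕ} {r : ℕ} (hD : Dat M g L) (h3 : R3 L) (hr : L.length = r + 1) (hd : Dm dem L)
    (hds : Ds ds dem) (h : node2 M r 1 1 4 0 [] dem [] [] ds = true) : Acc M g L := by
  classical
  let R : P → P → Bool := fun x y => decide (x.2 < y.2 ∨ x.2 = y.2 ∧ y.1 ≤ x.1)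
  have hp := List.mergeSort_perm L R
  have hs : (L.mergeSort R).Pairwise fun x y => R x y = true := List.pairwise_mergeSort
    (fun x y z h1 h2 => by simp only [R, decide_eq_true_eq] at *; omega)
    (fun x y => by simp only [R, Bool.or_eq_true, decide_eq_true_eq]; omega) L
  obtain ⟨l, h1, h2⟩ := node2_spec (g := g) (suf := L.mergeSort R) (ps := []) (pre := []) (one := []) r ⟨⟨hD.perm hp.symm,
    hs.imp fun h => of_decide_eq_true h,
    fun y hy => Or.inl (hD.dv y (hp.mem_iff.1 hy)).2.2.2.1, fun d h => by simpa only [hp.mem_iff] using hd d h,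
    fun _ h => (nomatch h), one_pos, fun q hq h => absurd (Nat.dvd_one.1 h) hq.ne_one,
    by rw [one_mul, one_mul, cnt_perm g hp, hD.sum]⟩, h3.perm hp.symm, fun _ h => (nomatch h), hds, fun _ h => (nomatch h)⟩
    (hp.length_eq.trans hr) h
  exact ⟨l, h1.trans hp, h2⟩

end Cfsg.Lib.KC
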