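import Cfsg.Agent.Lib.KC.F
import Cfsg.Agent.Lib.KC.H

/-! # More constraints on class data -/

namespace Cfsg.Lib.KC
open Cfsg Subgroup Cfsg.Lib.Invol Cfsg.Lib.Comp

variable {G : Type*} [Group G] [Finite G]

theorem sq_dvd {p : ℕ} [hp : Fact p.Prime] {x : G} (hx : orderOf x = p) (h : p * p ∣ Nat.card G) : p * p ∣ (dt x).2 := by
  obtain ⟨S, hS⟩ := IsPGroup.exists_le_sylow (p := p) (P := zpowers x) (IsPGroup.of_card (n := 1) (by rw [Nat.card_zpowers, hx, pow_one]))
  have h1 : p ^ 2 ∣ Nat.card S := S.pow_dvd_card_of_pow_dvd_card (sq p ▸ h)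
  let w : S := ⟨x, hS (mem_zpowers x)⟩
  have h2 : p ^ 2 ∣ Nat.card (centralizer ({w} : Set S)) := by
    obtain ⟨n, hn⟩ := IsPGroup.iff_card.1 (S.2.to_subgroup (centralizer ({w} : Set S)))
    by_contra h2
    have h3 : n ≤ 1 := not_lt.1 fun h => h2 (hn ▸ pow_dvd_pow p h)
    have : Nontrivial S := ⟨w, 1, fun e => hp.1.ne_one (by rw [← hx, show x = 1 from congrArg Subtype.val e, orderOf_one])⟩
    obtain ⟨k, hk, h4⟩ := (S.2.to_subgroup (center S)).nontrivial_iff_card.1 S.2.center_nontrivial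
    have h5 : center S = centralizer {w} := eq_of_le_of_card_ge (center_le_centralizer _)
      (by rw [hn, h4]; exact Nat.pow_le_pow_right hp.1.pos (by omega))
    have h6 : centralizer ({w} : Set S) = ⊤ := centralizer_eq_top_iff_subset.2 (Set.singleton_subset_iff.2
      (h5.ge (mem_cent.2 (Commute.refl w))))
    exact h2 (by rwa [h6, card_top])
  rw [← sq]
  refine h2.trans ?_
  rw [← card_map_of_injective (S : Subgroup G).subtype_injective]
  refine dvd_of_le (IsConj.refl x) ?_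
  rintro _ ⟨s, hs, rfl⟩
  exact congrArg Subtype.val (mem_cent.1 hs)

theorem cnt_const {g p c : ℕ} {l : List P} (h : ∀ y ∈ l, y.1 = p → y.2 = c) : cnt g l (Nat.beq p) = cq l p * (g / c) := by
  induction l with
  | nil => exact (zero_mul _).symm
  | cons y u ih =>
    rw [cnt_cons, ih fun z hz => h z (List.mem_cons_of_mem _ hz), cq_eq, cq_eq, List.map_cons, List.count_cons]
    simp only [Nat.beq_eq, beq_iff_eq, eq_comm (a := p)]
    split_ifs with e
    · rw [h y List.mem_cons_self e]; ring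
    · simp

theorem cnt_ord {n : ℕ} (hn : n ≠ 1) : cnt (Nat.card G) (LL G) (Nat.beq n) = Nat.card {x : G // orderOf x = n} := by
  rw [cnt_LL]
  exact card_congr_iff fun x => ⟨fun h => (Nat.beq_eq ▸ h.1 : n = orderOf x).symm, fun h => ⟨by rw [Nat.beq_eq, h],
    fun e => hn (by rw [← h, e, orderOf_one])⟩⟩

theorem r3 [IsSimpleGroup G] (hnc : ¬ IsMulCommutative G) : R3 (LL G) := by
  intro _ hx
  obtain ⟨x, hx1, rfl⟩ := mem_LL.1 hx
  intro hp h
  change (orderOf x).Prime at hp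
  have := Fact.mk hp
  have h1 : ¬ orderOf x * orderOf x ∣ Nat.card G := fun e => h (sq_dvd (p := orderOf x) rfl e)
  obtain ⟨S, hS⟩ := IsPGroup.exists_le_sylow (p := orderOf x) (P := zpowers x)
    (IsPGroup.of_card (n := 1) (by rw [Nat.card_zpowers, pow_one]))
  obtain ⟨m, hm⟩ := orderOf_dvd_natCard x
  have h2 : Nat.card S = orderOf x := (Small.card_sylow_subgroup_eq S (m := m) (by rw [pow_one, hm])
    fun h => h1 (hm ▸ Nat.mul_dvd_mul_left _ h)).trans (pow_one _)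
  have h3 : ∀ y ∈ (S : Subgroup G), y ≠ 1 → centralizer {y} = centralizer (S : Set G) := fun y hy y1 => by
    rw [← centralizer_closure, ← zpowers_eq_closure, Small.eq_zpowers_of_mem_card_prime h2 hy y1]; rfl
  have h4 : ∀ y ∈ LL G, y.1 = orderOf x → y.2 = (dt x).2 := fun _ hy e => by
    obtain ⟨y, y1, rfl⟩ := mem_LL.1 hy
    obtain ⟨g, hg⟩ := exists_conj_mem_sylow S (k := 1) (x := y) (by rw [pow_one, ← e]; exact pow_orderOf_eq_one y)
    rw [dt_conj (isConj_iff.2 ⟨g, rfl⟩)]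
    change Nat.card _ = Nat.card _
    rw [h3 _ hg (by simpa using y1), h3 x (hS (mem_zpowers x)) hx1]
  refine ⟨fun _ hy e => ?_, h4, ?_⟩
  · obtain ⟨y, -, rfl⟩ := mem_LL.1 hy
    exact h1 (e.trans (card_subgroup_dvd_card _))
  have h5 := cnt_const (g := Nat.card G) h4
  rw [cnt_ord hp.ne_one, Small.card_orderOf_eq_prime S h2] at h5
  have h6 := Small.card_normalizer_mul_card_sylow S
  have h7 := Small.relIndex_centralizer_ne_one hnc S (orderOf_dvd_natCard x)
  have h8 := relIndex_mul_relIndex ⊥ _ _ bot_le (Small.centralizer_le_normalizer' (S : Subgroup G))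
  rw [relIndex_bot_left, relIndex_bot_left] at h8
  have h9 : (dt x).2 = Nat.card (centralizer ((S : Subgroup G) : Set G)) := by
    change Nat.card _ = _; rw [h3 x (hS (mem_zpowers x)) hx1]; rfl
  have c0 : 0 < (dt x).2 := Nat.card_pos
  have n0 : 0 < Nat.card (Sylow (orderOf x) G) := Nat.card_pos
  have e0 : 0 < Nat.card (normalizer ((S : Subgroup G) : Set G)) := Nat.card_pos
  rw [← h8, ← h9] at h6 e0
  rw [← h6, mul_assoc, Nat.mul_div_cancel_left _ c0] at h5
  generalize (centralizer ((S : Subgroup G) : Set G)).relIndex (normalizer ((S : Subgroup G) : Set G)) = e at *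
  have e2 : 2 ≤ e := by
    rcases e with _ | _ | e
    · simp at e0
    · exact absurd rfl h7
    · omega
  have h10 : orderOf x - 1 = cq (LL G) (orderOf x) * e := Nat.eq_of_mul_eq_mul_left n0 (by rw [h5]; ring)
  change 2 * cq (LL G) (orderOf x) < orderOf x
  have := hp.pos
  have := Nat.mul_le_mul_left (cq (LL G) (orderOf x)) e2
  change 0 < orderOf x at *
  omega

theorem accA [IsSimpleGroup G] (hnc : ¬ IsMulCommutative G) {M : Md} {r : ℕ} (hk : Nat.card (ConjClasses G) = M.k + 1)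
    (hr : M.k = r + 1) (h16 : 16 ∣ Nat.card G) (h4 : ∃ w : G, orderOf w = 4) (h8 : E8 G) (h0 : M.G0 = 1104)
    (hc : ∀ c, M.mc c = true) (hg : ∀ c, M.mg c = true) (h : node2 M r 1 1 4 0 [] [(2, 16), (4, 8)] [] [] [2, 4] = true) :
    Acc M (Nat.card G) (LL G) := by
  have h1 := big0 hnc h16
  obtain ⟨hD, hl⟩ := dat hnc hk (no3 hnc (by omega)) h8 (h0 ▸ h1) (by omega) (fun _ => hc _) (hg _)
  refine main2 hD (r3 hnc) (hl.trans hr) (fun d hd => ?_) ⟨by decide, fun a => by simp [eq_comm]⟩ h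
  simp only [List.mem_cons, List.not_mem_nil, or_false] at hd
  rcases hd with rfl | rfl
  · exact hD.sy 2 4 Nat.prime_two (by omega) h16
  · obtain ⟨w, hw⟩ := h4
    exact ⟨dt w, mem_LL.2 ⟨w, fun e => by simp [e] at hw, rfl⟩, hw, h8 w (Or.inr hw)⟩

omit [Finite G] in
theorem ree5 (h : IsRee G) : 19683 ∣ Nat.card G ∧ ¬ 5 ∣ Nat.card G := by
  obtain ⟨-, m, hm, h⟩ := h
  have h1 : ∀ m, 3 ^ (2 * m + 1) % 5 = 2 ∨ 3 ^ (2 * m + 1) % 5 = 3 := fun m => by
    induction m with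
    | zero => simp
    | succ m ih => rw [show 2 * (m + 1) + 1 = 2 * m + 1 + 2 by ring, pow_add]; omega
  have h2 : 27 ∣ 3 ^ (2 * m + 1) := pow_dvd_pow 3 (show 3 ≤ 2 * m + 1 by omega)
  have h4 := h1 m
  generalize 3 ^ (2 * m + 1) = q at *
  refine ⟨h ▸ ((pow_dvd_pow_of_dvd h2 3).mul_right _).mul_right _, ?_⟩
  have h6 : (q - 1) % 5 = q % 5 - 1 := by omega
  rw [Nat.dvd_iff_mod_eq_zero, h, Nat.mul_mod, Nat.mul_mod (q ^ 3), Nat.add_mod, Nat.pow_mod, h6]
  rcases h4 with h4 | h4 <;> rw [h4] <;> decide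

theorem accB [IsSimpleGroup G] (hnc : ¬ IsMulCommutative G) {M : Md} {r : ℕ} (hk : Nat.card (ConjClasses G) = M.k + 1)
    (hr : M.k = r + 1) (hR : IsRee G) (h8 : 8 ∣ Nat.card G → E8 G) (h0 : M.G0 = 175560)
    (hc : ∀ c, ¬ 16 ∣ c → ¬ 5 ∣ c → M.mc c = true) (hg : ∀ c, 19683 ∣ c → M.mg c = true)
    (h : node2 M r 1 1 4 0 [] [(2, 8), (3, 19683), (7, 7)] [] [] [2, 3, 7] = true) : Acc M (Nat.card G) (LL G) := by
  obtain ⟨h1, h2, h3, -⟩ := ree_card (Or.inl hR)
  have b8 : 2 ^ 3 ∣ Nat.card G := by omega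
  have b2 : 2 ∣ Nat.card G := by omega
  have b7 : 7 ∣ Nat.card G := by omega
  have b16 : ¬ 16 ∣ Nat.card G := by omega
  have b168 : 168 < Nat.card G := by omega
  have b24 : 24 < Nat.card G := by omega
  obtain ⟨h4, h5⟩ := ree5 hR
  obtain ⟨hD, hl⟩ := dat hnc hk (no3 hnc b168) (h8 b8) (h0 ▸ h2) b24
    (fun x => hc _ (fun h => b16 (h.trans (card_subgroup_dvd_card _)))
      fun h => h5 (h.trans (card_subgroup_dvd_card _))) (hg _ h4)
  refine main2 hD (r3 hnc) (hl.trans hr) (fun d hd => ?_) ⟨by decide, fun a => by simp [eq_comm]⟩ h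
  simp only [List.mem_cons, List.not_mem_nil, or_false] at hd
  rcases hd with rfl | rfl | rfl
  · exact hD.sy 2 3 Nat.prime_two b2 b8
  · have e : 3 ^ 9 = 19683 := by norm_num
    obtain ⟨y, a1, a2, a3⟩ := hD.sy 3 9 Nat.prime_three h3 (by rw [e]; exact h4)
    rw [e] at a3
    exact ⟨y, a1, a2, a3⟩
  · exact hD.sy 7 1 (by norm_num) b7 b7

theorem accC [IsSimpleGroup G] (hnc : ¬ IsMulCommutative G) {M : Md} {r : ℕ} (hk : Nat.card (ConjClasses G) = M.k + 1)
    (hr : M.k = r + 1) (hR : Nat.card G = 175560) (h8 : 8 ∣ Nat.card G → E8 G) (h0 : M.G0 = 175560)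
    (hc : ∀ c, c ∣ 175560 → M.mc c = true) (hg : M.mg 175560 = true)
    (h : node2 M r 1 1 4 0 [] [(2, 8), (3, 3), (5, 5), (7, 7), (11, 11), (19, 19)] [] [] [2, 3, 5, 7, 11, 19] = true) :
    Acc M (Nat.card G) (LL G) := by
  obtain ⟨hD, hl⟩ := dat hnc hk (no3 hnc (by omega)) (h8 (by omega)) (by omega) (by omega)
    (fun x => hc _ (hR ▸ card_subgroup_dvd_card _)) (hR ▸ hg)
  refine main2 hD (r3 hnc) (hl.trans hr) (fun d hd => ?_) ⟨by decide, fun a => by simp [eq_comm]⟩ h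
  simp only [List.mem_cons, List.not_mem_nil, or_false] at hd
  rcases hd with rfl | rfl | rfl | rfl | rfl | rfl
  · exact hD.sy 2 3 Nat.prime_two (by omega) (by omega)
  · exact hD.sy 3 1 Nat.prime_three (by omega) (by omega)
  · exact hD.sy 5 1 (by norm_num) (by omega) (by omega)
  · exact hD.sy 7 1 (by norm_num) (by omega) (by omega)
  · exact hD.sy 11 1 (by norm_num) (by omega) (by omega)
  · exact hD.sy 19 1 (by norm_num) (by omega) (by omega)

end Cfsg.Lib.KC
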