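import Cfsg.Agent.Lib.KC.H

/-! # Splitting the search into independent pieces -/

namespace Cfsg.Lib.KC
open Cfsg.Lib.Comp

noncomputable def node3 (M : Md) (S : List P → Bool) (r : ℕ) : Nt :=
  Nat.rec (motive := fun _ => Nt) (leaf2 M) (fun r N a b cm om pre dem ps one ds =>
    cnd (S pre) true (body M r a b cm dem ps ds (inner2 M r N a b cm om pre dem ps one))) r

noncomputable def hsh (l : List P) : ℕ :=
  List.rec (motive := fun _ => ℕ) 0 (fun y _ ih => Nat.add y.1 (Nat.mul 5 ih)) l

noncomputable def lenP (l : List P) : ℕ := List.rec (motive := fun _ => ℕ) 0 (fun _ _ ih => Nat.succ ih) l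

theorem lenP_eq (l : List P) : lenP l = l.length := by
  induction l with
  | nil => rfl
  | cons x u ih => exact congrArg Nat.succ ih

noncomputable def skp (d n i : ℕ) (l : List P) : Bool :=
  cnd (cnd (Nat.beq (lenP l) d) (cnd (Nat.beq (Nat.mod (hsh l) n) i) false true) false) true
    (cnd (Nat.ble 2 (cq l 6)) (an l fun y => cnd (Nat.beq y.1 3) (Nat.beq y.2 6) false) false)

variable {M : Md} {g : ℕ}

theorem node3_spec {S : List P → Bool} (r : ℕ) : ∀ {a b cm om : ℕ} {pre dem one : List P} {ps ds : List ℕ} {suf : List P},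
    Inv2 M g a b cm om pre dem ps one ds suf → suf.length = r + 1 → (∀ k, ¬ S ((suf.take k).reverse ++ pre) = true) →
    node3 M S r a b cm om pre dem ps one ds = true → Acc M g (pre ++ suf) := by
  induction r with
  | zero =>
    intro a b cm om pre dem one ps ds suf I hr _ h
    obtain ⟨x, rfl⟩ := List.length_eq_one_iff.1 hr
    exact leaf2_spec I h
  | succ r ih =>
    intro a b cm om pre dem one ps ds suf I hr hS h
    obtain _ | ⟨x, suf⟩ := suf
    · exact absurd hr (by simp)
    have hr' : suf.length = r + 1 := by simpa using hr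
    obtain ⟨o, h1, h2⟩ := body_spec I hr' (cnd_or'.1 h (hS 0))
    obtain ⟨a', b', dem', ps', one', ds', I', h5⟩ := inner2_spec I hr' h1 h2
    obtain ⟨l, h6, h7⟩ := ih I' hr' (fun k => by simpa using hS (k + 1)) h5
    exact ⟨l, h6.trans List.perm_middle.symm, h7⟩

theorem main3 {L dem : List P} {ds : List ℕ} {r d n : ℕ} (hD : Dat M g L) (h3 : R3 L) (hr : L.length = r + 1) (hd : Dm dem L)
    (hds : Ds ds dem) (hn : 0 < n) (h6 : (3, 6) ∈ L → cq L 6 ≤ 1) (h : ∀ i < n, node3 M (skp d n i) r 1 1 4 0 [] dem [] [] ds = true) : Acc M g L := by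
  classical
  let R : P → P → Bool := fun x y => decide (x.2 < y.2 ∨ x.2 = y.2 ∧ y.1 ≤ x.1)
  have hp := List.mergeSort_perm L R
  have hs : (L.mergeSort R).Pairwise fun x y => R x y = true := List.pairwise_mergeSort
    (fun x y z h1 h2 => by simp only [R, decide_eq_true_eq] at *; omega)
    (fun x y => by simp only [R, Bool.or_eq_true, decide_eq_true_eq]; omega) L
  suffices H : ∀ k, ¬ skp d n (hsh ((L.mergeSort R).take d).reverse % n) (((L.mergeSort R).take k).reverse ++ []) = true by
    obtain ⟨l, h1, h2⟩ := node3_spec (g := g) (suf := L.mergeSort R) (ps := []) (pre := []) (one := []) r ⟨⟨hD.perm hp.symm,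
      hs.imp fun h => of_decide_eq_true h,
      fun y hy => Or.inl (hD.dv y (hp.mem_iff.1 hy)).2.2.2.1, fun d h => by simpa only [hp.mem_iff] using hd d h,
      fun _ h => (nomatch h), one_pos, fun q hq h => absurd (Nat.dvd_one.1 h) hq.ne_one,
      by rw [one_mul, one_mul, cnt_perm g hp, hD.sum]⟩, h3.perm hp.symm, fun _ h => (nomatch h), hds, fun _ h => (nomatch h)⟩
      (hp.length_eq.trans hr) H (h _ (Nat.mod_lt _ hn))
    exact ⟨l, h1.trans hp, h2⟩
  intro k hk
  unfold skp at hk
  rw [cnd_or, cnd_tt, cnd_tt, cnd_not, Nat.beq_eq, Nat.beq_eq, lenP_eq, List.append_nil, List.length_reverse] at hk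
  rcases hk with hk | hk
  · refine hk.2 ?_
    rw [← hk.1, List.length_take, ← List.take_take, List.take_length]
    rfl
  · simp only [Nat.ble_eq, an_iff, cnd_tt, Nat.beq_eq, List.mem_reverse] at hk
    obtain ⟨h1, ⟨a, b⟩, h2, rfl, rfl⟩ := hk
    have h4 := h6 (hp.mem_iff.1 (List.mem_of_mem_take h2))
    rw [cq_eq, ← (hp.map _).count_eq] at h4
    rw [cq_eq, ((List.reverse_perm _).map _).count_eq] at h1
    have := ((List.take_sublist k (L.mergeSort R)).map Prod.fst).count_le 6
    omega

end Cfsg.Lib.KC
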