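import Cfsg.Agent.Lib.KC.I
import Cfsg.Agent.Lib.KC.K
import Cfsg.Agent.Lib.Conj.Ker
import Cfsg.Agent.Lib.BN.SzCount
import Cfsg.Agent.Lib.BN.SzModel
import Cfsg.Agent.S4198

/-! # Eliminating the surviving class equations -/

namespace Cfsg.Lib.KC
open Cfsg Subgroup Cfsg.Lib.Invol Cfsg.Lib.Comp

variable {G : Type*} [Group G] [Finite G]

theorem k_S7 : Nat.card (ConjClasses (Equiv.Perm (Fin 7))) = 15 := by
  let T : Finset (Multiset ℕ) := {0, {2}, {3}, {4}, {5}, {6}, {7}, {2, 2}, {2, 3}, {2, 4}, {2, 5}, {3, 3}, {3, 4}, {2, 2, 2}, {2, 2, 3}}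
  have hT : ∀ m : Multiset ℕ, m.sum ≤ 7 → (∀ a ∈ m, 2 ≤ a) → m ∈ T := fun m h1 h2 => by
    have h3 := Multiset.card_nsmul_le_sum h2
    rw [smul_eq_mul] at h3
    have h4 : m.card = 0 ∨ m.card = 1 ∨ m.card = 2 ∨ m.card = 3 := by omega
    rcases h4 with h | h | h | h
    · rw [Multiset.card_eq_zero.1 h]; decide
    · obtain ⟨a, rfl⟩ := Multiset.card_eq_one.1 h
      simp only [Multiset.sum_singleton, Multiset.mem_singleton, forall_eq] at h1 h2
      interval_cases a <;> decide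
    · obtain ⟨a, b, rfl⟩ := Multiset.card_eq_two.1 h
      simp only [Multiset.insert_eq_cons, Multiset.sum_cons, Multiset.sum_singleton, Multiset.mem_cons, Multiset.mem_singleton,
        forall_eq_or_imp, forall_eq] at h1 h2
      obtain ⟨a1, a2⟩ := h2
      have : a ≤ 5 := by omega
      have : b ≤ 5 := by omega
      interval_cases a <;> interval_cases b <;> first | omega | decide
    · obtain ⟨a, b, c, rfl⟩ := Multiset.card_eq_three.1 h
      simp only [Multiset.insert_eq_cons, Multiset.sum_cons, Multiset.sum_singleton, Multiset.mem_cons, Multiset.mem_singleton,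
        forall_eq_or_imp, forall_eq] at h1 h2
      obtain ⟨a1, a2, a3⟩ := h2
      have : a ≤ 3 := by omega
      have : b ≤ 3 := by omega
      have : c ≤ 3 := by omega
      interval_cases a <;> interval_cases b <;> interval_cases c <;> first | omega | decide
  rw [show 15 = T.card by decide, ← Nat.card_eq_finsetCard]
  refine Nat.card_eq_of_bijective (fun C => ⟨Cfsg.Agent.S4198.ct C, ?_⟩) ⟨fun C D h => Cfsg.Agent.S4198.ct_inj
    (congrArg Subtype.val h), fun ⟨m, hm⟩ => ?_⟩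
  · obtain ⟨g, rfl⟩ := C.exists_rep
    exact hT g.cycleType (by simpa using g.sum_cycleType_le) fun a => Equiv.Perm.two_le_of_mem_cycleType
  · obtain ⟨g, hg⟩ := (Equiv.Perm.exists_with_cycleType_iff (Fin 7) (m := m)).2
      ((by decide : ∀ m ∈ T, m.sum ≤ Fintype.card (Fin 7) ∧ ∀ a ∈ m, 2 ≤ a) m hm)
    exact ⟨ConjClasses.mk g, Subtype.ext hg⟩

theorem k_A7 : 3 ∣ Nat.card (ConjClasses (alternatingGroup (Fin 7))) := by
  let φ : Equiv.Perm (Fin 7) →* ℤˣ := Equiv.Perm.sign
  have h1 : φ.ker.index = 2 := alternatingGroup.index_eq_two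
  have h2 : Conj.nsp φ 0 = Nat.card (ConjClasses (Equiv.Perm (Fin 7))) :=
    Nat.card_congr (Equiv.subtypeUnivEquiv fun C => by simpa using C.exists_rep)
  have := Conj.card_classes_ker' φ
  simp only [h1, Finset.sum_range_succ, Finset.range_zero, Finset.sum_empty, Nat.gcd_zero_left, Nat.gcd_one_left, h2, k_S7,
    Nat.gcd_one_right, Nat.gcd_zero_right] at this
  change 3 ∣ Nat.card (ConjClasses φ.ker)
  omega

omit [Finite G] in
theorem dt_equiv {H : Type*} [Group H] (e : G ≃* H) (x : G) : dt (e x) = dt x := by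
  refine Prod.ext (e.orderOf_eq x) (Nat.card_congr (e.toEquiv.subtypeEquiv fun y => ?_).symm)
  rw [mem_cent, mem_cent]
  exact ⟨fun h => h.map e, fun h => e.injective (by simpa using h.eq)⟩

omit [Finite G] in
theorem sz_no8 (h : Lie.IsoSuzuki G) {x : G} (h4 : orderOf x = 4) : (dt x).2 ≠ 8 := by
  obtain ⟨F, _, _, m, hm, hF, ⟨e⟩⟩ := h
  have := BN.Sz.szField_of_card hm hF
  let f := e.trans (BN.Sz.szEquiv m).symm
  rw [← dt_equiv f]
  rw [← f.orderOf_eq] at h4
  generalize f x = y at h4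
  have h1 : (dt y⁻¹).2 = (dt y).2 := congrArg (fun H : Subgroup _ => Nat.card H) (by
    ext z; rw [mem_cent, mem_cent, Commute.inv_right_iff])
  have h2 : (dt y).2 = 2 * 2 ^ (2 * m + 1) := by
    rw [← BN.Sz.card_centralizer_U (m := m) (one_ne_zero (α := F)) 0]
    rcases BN.Sz.isConj_U_one (g := y) (orderOf_dvd_iff_pow_eq_one.1 h4.dvd) (fun e => by
      have := orderOf_dvd_of_pow_eq_one (n := 2) ((sq y).trans e)
      rw [h4] at this
      omega) with h | h
    · exact congrArg Prod.snd (dt_conj h).symm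
    · exact h1.symm.trans (congrArg Prod.snd (dt_conj h).symm)
  have : 2 ^ 3 ≤ 2 ^ (2 * m + 1) := Nat.pow_le_pow_right two_pos (by omega)
  omega

theorem len_fi {l : List P} (h : l.Perm (LL G)) (q : ℕ → Bool) :
    len (fi l (fun y => q y.1) Prod.fst []) = ((FS G).filter fun C => q (orderOf (rp C)) = true).card := by
  have h1 : ∀ l : List P, len (fi l (fun y => q y.1) Prod.fst []) = l.countP fun y => q y.1 := fun l => by
    induction l with
    | nil => rfl
    | cons y u ih =>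
      change len (cnd (q y.1) (y.1 :: fi u (fun y => q y.1) Prod.fst []) (fi u (fun y => q y.1) Prod.fst [])) = _
      rw [List.countP_cons, ← ih, cnd_eq]
      split_ifs <;> rfl
  rw [h1, h.countP_eq, LL, List.countP_map, Finset.card_def, Finset.filter_val, ← Multiset.countP_eq_card_filter,
    ← Finset.coe_toList, Multiset.coe_countP]
  simp only [Bool.decide_eq_true]
  rfl

theorem bf2 {s t : G} (hs : orderOf s = 2) (ht : orderOf t = 2) (h : ¬ IsConj s t) :
    Nat.card G / (dt s).2 * (Nat.card G / (dt t).2) ≤ ((FS G).filter fun C => dvB 2 (orderOf (rp C)) = true).card * Nat.card G := by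
  classical
  rw [← card_cls, ← card_cls, ← card_prod_and, ← Nat.card_eq_finsetCard]
  refine card_le_mul_of_fibers (q := fun C => C ∈ (FS G).filter fun C => dvB 2 (orderOf (rp C)) = true)
    (fun p : G × G => ConjClasses.mk (p.1 * p.2)) (fun p hp => ?_) fun C _ => ?_
  · have h1 : 2 ∣ orderOf (rp (ConjClasses.mk (p.1 * p.2))) := by
      rw [orderOf_of_isConj (mk_eq.1 rfl), ← even_iff_two_dvd, ← Nat.not_odd_iff_even]
      exact fun e => h ((hp.1.trans (isConj_of_odd (mul_self_of_two ((orderOf_of_isConj hp.1).symm.trans hs))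
        (mul_self_of_two ((orderOf_of_isConj hp.2).symm.trans ht)) e)).trans hp.2.symm)
    simp only [FS, Finset.mem_filter, Finset.mem_univ, true_and, dvB_iff]
    exact ⟨fun e => by simp [e] at h1, h1⟩
  rw [← card_isConj_mul (rp C)]
  refine card_le_mul_of_fibers (fun p : G × G => p.1 * p.2) (fun p hp => mk_eq.1 hp.2) fun y hy => ?_
  rw [card_centralizer_of_isConj hy]
  refine le_trans ?_ (Cfsg.Agent.S0238.result y).1
  exact card_le_of_imp fun p hp => ⟨(orderOf_of_isConj hp.1.1.1).symm.trans hs,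
    (orderOf_of_isConj hp.1.1.2).symm.trans ht, hp.2⟩

omit [Finite G] in
theorem six {y : G} (hy : orderOf y = 6) : orderOf (y ^ 2) = 3 ∧ orderOf (y ^ 3) = 2 ∧ y ^ 3 * (y ^ 2)⁻¹ = y :=
  ⟨by rw [orderOf_pow_of_dvd two_ne_zero (by omega), hy], by rw [orderOf_pow_of_dvd three_ne_zero (by omega), hy], by group⟩

theorem four_dvd {y : G} (hy : orderOf y = 6) (h : 4 ∣ (dt (y ^ 2)).2) : 4 ∣ (dt y).2 := by
  have := Fact.mk Nat.prime_two
  obtain ⟨-, h2, h3⟩ := six hy
  let s : centralizer ({y ^ 2} : Set G) := ⟨y ^ 3, mem_cent.2 (Commute.pow_pow_self y 3 2)⟩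
  refine (sq_dvd (p := 2) (x := s) ((orderOf_mk _ _).trans h2) h).trans ?_
  change Nat.card _ ∣ _
  rw [← card_map_of_injective (centralizer ({y ^ 2} : Set G)).subtype_injective]
  refine dvd_of_le (IsConj.refl y) ?_
  rintro _ ⟨z, hz, rfl⟩
  exact (congrArg (Commute (z : G)) h3).mp
    (Commute.mul_right (congrArg Subtype.val (mem_cent.1 hz)) (mem_cent.1 z.2).inv_right)

theorem six_le {k : ℕ} (hk : ¬ 2 ∣ 3 * k) (h : ∀ x : G, orderOf x = 3 → (dt x).2 = 2 ^ 1 * (3 * k)) :
    Nat.card {y : G // orderOf y = 6} ≤ Nat.card {x : G // orderOf x = 3} * k := by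
  have := Fact.mk Nat.prime_two
  refine card_le_mul_of_fibers (fun y : G => y ^ 2) (fun y hy => (six hy).1) fun x hx => ?_
  have hH : Nat.card (centralizer ({x} : Set G)) = 2 ^ 1 * (3 * k) := h x hx
  obtain ⟨T⟩ : Nonempty (Sylow 2 (centralizer ({x} : Set G))) := inferInstance
  have hT : Nat.card T = 2 := Small.card_sylow_subgroup_eq T hH hk
  obtain ⟨s, hs⟩ := exists_prime_orderOf_dvd_card' (G := T) 2 hT.symm.dvd
  have h1 := card_isConj_mul (s : centralizer ({x} : Set G))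
  have h2 : 6 ≤ Nat.card (centralizer ({(s : centralizer ({x} : Set G))} : Set (centralizer ({x} : Set G)))) := by
    let u : centralizer ({x} : Set G) := ⟨x, mem_cent.2 (Commute.refl x)⟩
    have hc : Commute u s := Subtype.ext (mem_cent.1 s.1.2).symm
    refine Nat.le_of_dvd Nat.card_pos (Nat.Coprime.mul_dvd_of_dvd_of_dvd (m := 2) (n := 3) (by norm_num) ?_ ?_)
    · exact ((orderOf_coe s).trans hs).symm.dvd.trans (Subgroup.orderOf_dvd_natCard _ (mem_cent.2 (Commute.refl _)))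
    · exact ((orderOf_mk x u.2).trans hx).symm.dvd.trans (Subgroup.orderOf_dvd_natCard _ (mem_cent.2 hc))
  refine le_trans ?_ (show Nat.card {y // IsConj (s : centralizer ({x} : Set G)) y} ≤ k by rw [hH] at h1; nlinarith)
  refine Nat.card_le_card_of_injective (fun y => ⟨⟨y.1 ^ 3, mem_cent.2 (y.2.2 ▸ Commute.pow_pow_self y.1 3 2)⟩, ?_⟩) fun y z e => ?_
  · have a : y.1 ^ 3 ∈ centralizer ({x} : Set G) := mem_cent.2 ((congrArg (Commute (y.1 ^ 3)) y.2.2).mp (Commute.pow_pow_self y.1 3 2))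
    change IsConj _ (⟨y.1 ^ 3, a⟩ : centralizer ({x} : Set G))
    have h3 : orderOf (⟨y.1 ^ 3, a⟩ : centralizer ({x} : Set G)) = 2 := by rw [orderOf_mk, (six y.2.1).2.1]
    generalize (⟨y.1 ^ 3, a⟩ : centralizer ({x} : Set G)) = v at h3
    obtain ⟨g, hg⟩ := exists_conj_mem_sylow T (k := 1) (x := v) (orderOf_dvd_iff_pow_eq_one.1 h3.dvd)
    obtain ⟨w, -, hw⟩ := (Nat.card_eq_two_iff' (1 : T)).1 hT
    have h4 := (hw s (ne_one_of_two hs)).trans (hw ⟨_, hg⟩ fun e => ne_one_of_two h3 (by simpa using congrArg Subtype.val e)).symm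
    rw [h4]
    exact (isConj_iff.2 ⟨g, rfl⟩).symm
  · have e1 : y.1 ^ 3 = z.1 ^ 3 := congrArg (fun v => v.1.1) e
    have e2 : y.1 ^ 2 = z.1 ^ 2 := y.2.2.trans z.2.2.symm
    exact Subtype.ext (by rw [← (six y.2.1).2.2, e1, e2, (six z.2.1).2.2])

theorem exists_six {t : G} (ht : orderOf t = 2) (h : 3 ∣ (dt t).2) : ∃ y : G, orderOf y = 6 ∧ y ^ 3 = t := by
  have := Fact.mk Nat.prime_three
  obtain ⟨u, hu⟩ := exists_prime_orderOf_dvd_card' (G := centralizer ({t} : Set G)) 3 h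
  have a1 : Commute t u := (mem_cent.1 u.2).symm
  have a2 : orderOf (u : G) = 3 := by rw [orderOf_coe, hu]
  refine ⟨t * u, by rw [a1.orderOf_mul_eq_mul_orderOf_of_coprime (by rw [ht, a2]; norm_num), ht, a2], ?_⟩
  rw [a1.mul_pow, ← a2, pow_orderOf_eq_one, mul_one, a2, pow_succ, ← ht, pow_orderOf_eq_one, one_mul]

theorem conj_of_card {x y : G} (h : Nat.card {z : G // orderOf z = orderOf x} = Nat.card G / (dt x).2)
    (e : orderOf y = orderOf x) : IsConj x y := by
  by_contra h1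
  rw [← card_cls, card_remove (p := fun z : G => orderOf z = orderOf x) e] at h
  have := card_le_of_imp (p := fun z : G => IsConj x z) (q := fun z : G => orderOf z = orderOf x ∧ z ≠ y)
    fun z hz => ⟨(orderOf_of_isConj hz).symm, fun e => h1 (e ▸ hz)⟩
  omega

theorem six_one [IsSimpleGroup G] (hnc : ¬ IsMulCommutative G) (h : (3, 6) ∈ LL G) : cq (LL G) 6 ≤ 1 := by
  obtain ⟨-, h1, h2⟩ := r3 hnc _ h Nat.prime_three (by norm_num)
  have h3 : ∀ x : G, orderOf x = 3 → (dt x).2 = 6 := fun x hx =>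
    h1 _ (mem_LL.2 ⟨x, fun e => by simp [e] at hx, rfl⟩) hx
  have h4 := six_le (k := 1) (by norm_num) h3
  rw [← cnt_ord (by norm_num), ← cnt_ord (by norm_num), cnt_const h1, cnt_const (c := 6) fun _ hy e => by
    obtain ⟨y, -, rfl⟩ := mem_LL.1 hy
    refine Nat.dvd_antisymm (h3 _ (six e).1 ▸ card_dvd_of_le fun z hz => mem_cent.2 ((mem_cent.1 hz).pow_right 2)) ?_
    exact (show orderOf y = 6 from e).symm.dvd.trans (Subgroup.orderOf_dvd_natCard _ (mem_cent.2 (Commute.refl y)))] at h4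
  obtain ⟨x, -, hx⟩ := mem_LL.1 h
  have h5 : 6 ∣ Nat.card G := (show (dt x).2 = 6 from congrArg Prod.snd hx).symm.dvd.trans (card_subgroup_dvd_card _)
  have h6 : 0 < Nat.card G / 6 := Nat.div_pos (Nat.le_of_dvd Nat.card_pos h5) (by norm_num)
  change 2 * cq (LL G) 3 < 3 at h2
  change _ ≤ cq (LL G) 3 * (Nat.card G / 6) * 1 at h4
  have := Nat.le_of_mul_le_mul_right (h4.trans_eq (mul_one _)) h6
  omega

theorem accA3 [IsSimpleGroup G] (hnc : ¬ IsMulCommutative G) {M : Md} {r d n : ℕ} (hk : Nat.card (ConjClasses G) = M.k + 1)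
    (hr : M.k = r + 1) (h16 : 16 ∣ Nat.card G) (h4 : ∃ w : G, orderOf w = 4) (h8 : E8 G) (h0 : M.G0 = 1104)
    (hc : ∀ c, M.mc c = true) (hg : ∀ c, M.mg c = true) (hn : 0 < n)
    (h : ∀ i < n, node3 M (skp d n i) r 1 1 4 0 [] [(2, 16), (4, 8)] [] [] [2, 4] = true) : Acc M (Nat.card G) (LL G) := by
  have h1 := big0 hnc h16
  obtain ⟨hD, hl⟩ := dat hnc hk (no3 hnc (by omega)) h8 (h0 ▸ h1) (by omega) (fun _ => hc _) (hg _)
  refine main3 hD (r3 hnc) (hl.trans hr) (fun d hd => ?_) ⟨by decide, fun a => by simp [eq_comm]⟩ hn (six_one hnc) h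
  simp only [List.mem_cons, List.not_mem_nil, or_false] at hd
  rcases hd with rfl | rfl
  · exact hD.sy 2 4 Nat.prime_two (by omega) h16
  · obtain ⟨w, hw⟩ := h4
    exact ⟨dt w, mem_LL.2 ⟨w, fun e => by simp [e] at hw, rfl⟩, hw, h8 w (Or.inr hw)⟩

end Cfsg.Lib.KC
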