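import Cfsg.Agent.Lib.KC.G

/-! # Class equations with ten classes, part e -/

namespace Cfsg.Lib.KC

theorem runT2 : node2 MT2 8 1 1 4 0 [] [(2, 8), (3, 19683), (7, 7)] [] [] [2, 3, 7] = true := by decide +kernel

theorem runT3 : node2 MT3 8 1 1 4 0 [] [(2, 8), (3, 3), (5, 5), (7, 7), (11, 11), (19, 19)] [] [] [2, 3, 5, 7, 11, 19] = true := by
  decide +kernel

end Cfsg.Lib.KC
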