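import Cfsg.Agent.Lib.KC.U0
import Cfsg.Agent.Lib.KC.U1
import Cfsg.Agent.Lib.KC.U2
import Cfsg.Agent.Lib.KC.U3
import Cfsg.Agent.Lib.KC.U4
import Cfsg.Agent.Lib.KC.U5
import Cfsg.Agent.Lib.KC.U6
import Cfsg.Agent.Lib.KC.U7
import Cfsg.Agent.Lib.KC.Te

/-! # Class equations with ten classes -/

namespace Cfsg.Lib.KC

theorem runT0 (i : ℕ) (h : i < 8) : node3 MT0 (skp 5 8 i) 8 1 1 4 0 [] [(2, 16), (4, 8)] [] [] [2, 4] = true := by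
  interval_cases i
  exacts [u0, u1, u2, u3, u4, u5, u6, u7]

end Cfsg.Lib.KC
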