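import Cfsg.Agent.Lib.KC.K

/-! # Class equations with ten classes, part 0 -/

namespace Cfsg.Lib.KC

theorem u0 : node3 MT0 (skp 5 8 0) 8 1 1 4 0 [] [(2, 16), (4, 8)] [] [] [2, 4] = true := by decide +kernel

end Cfsg.Lib.KC
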